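import Groth.Agent.H16Derived.KInjRes.Main
import Mathlib.Algebra.Homology.DerivedCategory.KInjective
import Mathlib.Algebra.Homology.HomologicalComplexLimits
import Mathlib.CategoryTheory.Limits.Preserves.Shapes.Products

/-!
# Products of K-injective complexes; products and coproducts in derived categories
-/

universe t w v u

open CategoryTheory CategoryTheory.Limits CochainComplex CochainComplex.HomComplex

namespace Groth.Agent.H16Derived.KInjRes

variable {A : Type u} [Category.{v} A] [Abelian A]

lemma extends_of_homotopy_zero {K I : CochainComplex A ℤ} (f : K ⟶ I) (h : Homotopy f 0) :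
    ∃ ψ, mappingCone.inr (𝟙 K) ≫ ψ = f := by
  let z := Cochain.equivHomotopy f 0 h
  refine ⟨mappingCone.desc (𝟙 K) z.1 f ?_, mappingCone.inr_desc _ _ _ _⟩
  have := z.2
  simpa using this.symm

/-- A morphism into a product is null homotopic as soon as its components are. -/
lemma nonempty_homotopy_zero_of_fan {T : Type t} {X : T → CochainComplex A ℤ} (c : Fan X)
    (hc : IsLimit c) {K : CochainComplex A ℤ} (f : K ⟶ c.pt)
    (h : ∀ i, Nonempty (Homotopy (f ≫ c.proj i) 0)) : Nonempty (Homotopy f 0) := by
  choose ψ hψ using fun i => extends_of_homotopy_zero _ (h i).some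
  refine nonempty_homotopy_zero_of_extends f ⟨Fan.IsLimit.lift hc ψ, ?_⟩
  refine Fan.IsLimit.hom_ext hc _ _ fun i => ?_
  rw [Category.assoc, Fan.IsLimit.fac, hψ]

lemma isKInjective_of_fan {T : Type t} {X : T → CochainComplex A ℤ} (c : Fan X) (hc : IsLimit c)
    (h : ∀ i, (X i).IsKInjective) : (CochainComplex.IsKInjective c.pt) where
  nonempty_homotopy_zero f hK :=
    nonempty_homotopy_zero_of_fan c hc f fun i => (h i).nonempty_homotopy_zero _ hK

/-- A morphism out of a coproduct is null homotopic as soon as its components are. -/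
lemma nonempty_homotopy_zero_of_cofan {T : Type t} {X : T → CochainComplex A ℤ}
    [HasColimitsOfShape (Discrete T) A] (c : Cofan X) (hc : IsColimit c) {I : CochainComplex A ℤ}
    (f : c.pt ⟶ I) (h : ∀ i, Nonempty (Homotopy (c.inj i ≫ f) 0)) :
    Nonempty (Homotopy f 0) := by
  let e (n : ℤ) := isColimitCofanMkObjOfIsColimit (HomologicalComplex.eval A (ComplexShape.up ℤ) n)
    X c.inj (IsColimit.ofIsoColimit hc (Cofan.ext (Iso.refl _)))
  let hom (a b : ℤ) : c.pt.X a ⟶ I.X b := Cofan.IsColimit.desc (e a) fun i => (h i).some.hom a b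
  have hh : ∀ i a b, (c.inj i).f a ≫ hom a b = (h i).some.hom a b := fun i a b =>
    Cofan.IsColimit.fac (e a) (fun i => (h i).some.hom a b) i
  refine ⟨{ hom := hom, zero := fun a b hab => ?_, comm := fun a => ?_ }⟩
  · refine Cofan.IsColimit.hom_ext (e a) _ _ fun i => ?_
    exact (hh i a b).trans (((h i).some.zero a b hab).trans comp_zero.symm)
  · refine Cofan.IsColimit.hom_ext (e a) _ _ fun i => ?_
    change (c.inj i).f a ≫ f.f a = (c.inj i).f a ≫ _
    have := (h i).some.comm a
    simp only [HomologicalComplex.comp_f, HomologicalComplex.zero_f, add_zero] at this ⊢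
    rw [this, dNext_eq _ (show (ComplexShape.up ℤ).Rel a (a + 1) from rfl),
      prevD_eq _ (show (ComplexShape.up ℤ).Rel (a - 1) a by simp),
      dNext_eq _ (show (ComplexShape.up ℤ).Rel a (a + 1) from rfl),
      prevD_eq _ (show (ComplexShape.up ℤ).Rel (a - 1) a by simp),
      Preadditive.comp_add, (c.inj i).comm_assoc, hh, ← Category.assoc, hh]

section Derived

variable [HasDerivedCategory.{w} A]

lemma exists_Q_map_eq {K I : CochainComplex A ℤ} [I.IsKInjective]
    (φ : DerivedCategory.Q.obj K ⟶ DerivedCategory.Q.obj I) :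
    ∃ g : K ⟶ I, DerivedCategory.Q.map g = φ := by
  obtain ⟨g, hg⟩ := (CochainComplex.IsKInjective.Qh_map_bijective
    ((HomotopyCategory.quotient A _).obj K) I).2
      ((DerivedCategory.quotientCompQhIso A).hom.app K ≫ φ ≫
        (DerivedCategory.quotientCompQhIso A).inv.app I)
  obtain ⟨g, rfl⟩ := (HomotopyCategory.quotient A (ComplexShape.up ℤ)).map_surjective g
  refine ⟨g, ?_⟩
  have := DerivedCategory.quotientCompQhIso_hom_naturality g
  rw [hg] at this
  rw [← cancel_epi ((DerivedCategory.quotientCompQhIso A).hom.app K), ← this]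
  simp

lemma nonempty_homotopy_of_Q_map_eq {K I : CochainComplex A ℤ} [I.IsKInjective] {g g' : K ⟶ I}
    (h : DerivedCategory.Q.map g = DerivedCategory.Q.map g') :
    Nonempty (Homotopy (g - g') 0) := by
  refine ⟨HomotopyCategory.homotopyOfEq _ _ ?_⟩
  apply (CochainComplex.IsKInjective.Qh_map_bijective
    ((HomotopyCategory.quotient A _).obj K) I).1
  rw [← cancel_mono ((DerivedCategory.quotientCompQhIso A).hom.app I),
    DerivedCategory.quotientCompQhIso_hom_naturality,
    DerivedCategory.quotientCompQhIso_hom_naturality, Functor.map_sub, h, sub_self,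
    Functor.map_zero]

lemma exists_kInjective_iso [IsGrothendieckAbelian.{v} A] (X : DerivedCategory A) :
    ∃ (I : CochainComplex A ℤ) (_ : I.IsKInjective), Nonempty (X ≅ DerivedCategory.Q.obj I) := by
  obtain ⟨N, j, h⟩ := exists_resolution_functor (A := A)
  obtain ⟨_, h₂, h₃, _⟩ := h (DerivedCategory.Q.objPreimage X)
  exact ⟨_, h₃, ⟨(DerivedCategory.Q.objObjPreimageIso X).symm ≪≫
    asIso (DerivedCategory.Q.map (j.app (DerivedCategory.Q.objPreimage X)))⟩⟩

theorem hasProducts_derivedCategory [IsGrothendieckAbelian.{v} A] :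
    HasProducts.{v} (DerivedCategory A) := by
  refine hasProducts_of_limit_fans
    (fun {T} X => Fan.mk (DerivedCategory.Q.obj (∏ᶜ fun i => (exists_kInjective_iso (X i)).choose))
      fun i => DerivedCategory.Q.map
        (Pi.π (fun i => (exists_kInjective_iso (X i)).choose) i) ≫
          (exists_kInjective_iso (X i)).choose_spec.snd.some.inv) (fun {T} X => ?_)
  · let I (i : T) := (exists_kInjective_iso (X i)).choose
    have hI : ∀ i, (I i).IsKInjective := fun i => (exists_kInjective_iso (X i)).choose_spec.fst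
    have hX : ∀ i, Nonempty (X i ≅ DerivedCategory.Q.obj (I i)) := fun i =>
      (exists_kInjective_iso (X i)).choose_spec.snd
    refine Nonempty.some ?_
    have : CochainComplex.IsKInjective (∏ᶜ I) :=
      isKInjective_of_fan _ (productIsProduct I) hI
    have key : IsLimit (Fan.mk (DerivedCategory.Q.obj (∏ᶜ I)) fun i =>
        DerivedCategory.Q.map (Pi.π I i) ≫ (hX i).some.inv : Fan X) := by
      have hex : ∀ s : Fan X, ∃ m : s.pt ⟶ DerivedCategory.Q.obj (∏ᶜ I),
          ∀ i, m ≫ DerivedCategory.Q.map (Pi.π I i) ≫ (hX i).some.inv = s.proj i := by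
        intro s
        let M := DerivedCategory.Q.objPreimage s.pt
        let e : DerivedCategory.Q.obj M ≅ s.pt := DerivedCategory.Q.objObjPreimageIso s.pt
        choose g hg using fun i =>
          have := hI i
          exists_Q_map_eq (e.hom ≫ s.proj i ≫ (hX i).some.hom)
        refine ⟨e.inv ≫ DerivedCategory.Q.map (Pi.lift g), fun i => ?_⟩
        rw [Category.assoc, ← Functor.map_comp_assoc, Pi.lift_π, hg]
        simp
      refine Fan.IsLimit.mk _ (fun s => (hex s).choose) (fun s i => (hex s).choose_spec i)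
        (fun s m hm => ?_)
      let M := DerivedCategory.Q.objPreimage s.pt
      let e : DerivedCategory.Q.obj M ≅ s.pt := DerivedCategory.Q.objObjPreimageIso s.pt
      rw [← cancel_epi e.hom]
      obtain ⟨g₁, hg₁⟩ := exists_Q_map_eq (e.hom ≫ m)
      obtain ⟨g₂, hg₂⟩ := exists_Q_map_eq (e.hom ≫ (hex s).choose)
      have hh := nonempty_homotopy_zero_of_fan _ (productIsProduct I) (g₁ - g₂) fun i => by
        have := hI i
        change Nonempty (Homotopy ((g₁ - g₂) ≫ Pi.π I i) 0)
        rw [Preadditive.sub_comp]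
        apply nonempty_homotopy_of_Q_map_eq
        rw [Functor.map_comp, Functor.map_comp, hg₁, hg₂, Category.assoc, Category.assoc,
          ← cancel_mono (hX i).some.inv]
        simp only [Category.assoc]
        exact congrArg (e.hom ≫ ·) ((hm i).trans ((hex s).choose_spec i).symm)
      rw [← hg₁, ← hg₂, ← sub_eq_zero, ← Functor.map_sub,
        DerivedCategory.Q_map_eq_of_homotopy A hh.some, Functor.map_zero]
    exact ⟨key⟩

/-- The localization functor sends coproducts of complexes to coproducts. -/
noncomputable def isColimitQCofan [IsGrothendieckAbelian.{v} A] {T : Type t}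
    (K : T → CochainComplex A ℤ) [HasColimitsOfShape (Discrete T) A] :
    IsColimit (Cofan.mk (DerivedCategory.Q.obj (∐ K)) fun i =>
      DerivedCategory.Q.map (Sigma.ι K i) : Cofan fun i => DerivedCategory.Q.obj (K i)) :=
  Nonempty.some (by
    have hex : ∀ s : Cofan fun i => DerivedCategory.Q.obj (K i),
        ∃ m : DerivedCategory.Q.obj (∐ K) ⟶ s.pt,
          ∀ i, DerivedCategory.Q.map (Sigma.ι K i) ≫ m = s.inj i := by
      intro s
      obtain ⟨I, hI, ⟨e⟩⟩ := exists_kInjective_iso s.pt
      choose g hg using fun i => exists_Q_map_eq (s.inj i ≫ e.hom)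
      refine ⟨DerivedCategory.Q.map (Sigma.desc g) ≫ e.inv, fun i => ?_⟩
      rw [← Functor.map_comp_assoc, Sigma.ι_desc, hg]
      simp
    refine ⟨Cofan.IsColimit.mk _ (fun s => (hex s).choose) (fun s i => (hex s).choose_spec i)
      (fun s m hm => ?_)⟩
    obtain ⟨I, hI, ⟨e⟩⟩ := exists_kInjective_iso s.pt
    rw [← cancel_mono e.hom]
    obtain ⟨g₁, hg₁⟩ := exists_Q_map_eq (m ≫ e.hom)
    obtain ⟨g₂, hg₂⟩ := exists_Q_map_eq ((hex s).choose ≫ e.hom)
    have hh := nonempty_homotopy_zero_of_cofan _ (coproductIsCoproduct K) (g₁ - g₂) fun i => by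
      change Nonempty (Homotopy (Sigma.ι K i ≫ (g₁ - g₂)) 0)
      rw [Preadditive.comp_sub]
      apply nonempty_homotopy_of_Q_map_eq
      rw [Functor.map_comp, Functor.map_comp, hg₁, hg₂]
      simp only [← Category.assoc]
      exact congrArg (· ≫ e.hom) ((hm i).trans ((hex s).choose_spec i).symm)
    rw [← hg₁, ← hg₂, ← sub_eq_zero, ← Functor.map_sub,
      DerivedCategory.Q_map_eq_of_homotopy A hh.some, Functor.map_zero])

theorem preservesCoproduct_Q [IsGrothendieckAbelian.{v} A] {T : Type t}
    (K : T → CochainComplex A ℤ) [HasColimitsOfShape (Discrete T) A] :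
    PreservesColimit (Discrete.functor K) (DerivedCategory.Q (C := A)) :=
  preservesColimit_of_preserves_colimit_cocone (coproductIsCoproduct K)
    ((isColimitMapCoconeCofanMkEquiv _ _ _).symm (isColimitQCofan K))

theorem hasCoproducts_derivedCategory [IsGrothendieckAbelian.{v} A] :
    HasCoproducts.{v} (DerivedCategory A) := fun T => by
  refine ⟨fun F => ?_⟩
  let K (i : T) := DerivedCategory.Q.objPreimage (F.obj ⟨i⟩)
  let e : Discrete.functor (fun i => DerivedCategory.Q.obj (K i)) ≅ F :=
    Discrete.natIso fun i => DerivedCategory.Q.objObjPreimageIso (F.obj i)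
  have : HasColimit (Discrete.functor fun i => DerivedCategory.Q.obj (K i)) :=
    ⟨⟨⟨_, isColimitQCofan K⟩⟩⟩
  exact hasColimit_of_iso e.symm

end Derived

end Groth.Agent.H16Derived.KInjRes
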