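import Mathlib.CategoryTheory.Abelian.GrothendieckCategory.Basic
import Mathlib.CategoryTheory.Abelian.GrothendieckAxioms.Colim
import Mathlib.CategoryTheory.Limits.Connected
import Mathlib.CategoryTheory.Functor.OfSequence
import Mathlib.CategoryTheory.Abelian.Refinements
import Mathlib.Algebra.Homology.HomologicalComplexAbelian
import Mathlib.Algebra.Homology.ShortComplex.HomologicalComplex

/-!
# An acyclic complex is covered by acyclic subcomplexes of bounded size
-/

universe v u

open CategoryTheory CategoryTheory.Limits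

namespace Groth.Agent.H16Derived.KInjRes

variable {A : Type u} [Category.{v} A] [Abelian A] [IsGrothendieckAbelian.{v} A]

variable (A) in
/-- The index types of the stages of the closure of a family indexed by `J`. -/
noncomputable def Idx (J : Type v) : ℕ → Type v
  | 0 => J
  | k + 1 => Idx J k ⊕ Idx J k ⊕ Shrink.{v} (Subobject (∐ fun _ : Idx J k => separator A))

variable (A) in
/-- The index type of the closure of a family indexed by `J`. -/
noncomputable abbrev Bd (J : Type v) : Type v := Σ k : ℕ, Idx A J k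

variable (A) in
/-- The free object on an index type. -/
noncomputable abbrev free (J : Type v) : A := ∐ fun _ : J => separator A

variable (A) in
/-- The stages. -/
noncomputable abbrev stage (J : Type v) (k : ℕ) : A := ∐ fun _ : Idx A J k => separator A

variable (A) in
/-- The object all the quotients of which bound the size of the terms. -/
noncomputable abbrev bound (J : Type v) : A := ∐ fun _ : Bd A J => separator A

lemma comp_of_sigma_desc_comp {ι : Type v} {U X Y : A} {g : ι → (U ⟶ X)} {h : X ⟶ Y}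
    (w : Sigma.desc g ≫ h = 0) (i : ι) : g i ≫ h = 0 := by
  simpa using Sigma.ι (fun _ => U) i ≫= w

namespace Closure

variable (M : CochainComplex A ℤ) {J : Type v} {k : ℕ}

/-- The cycles covered by a stage. -/
noncomputable abbrev cyc (σ : ∀ m : ℤ, Idx A J k → (separator A ⟶ M.X m)) (n : ℤ) : A :=
  kernel (Sigma.desc (σ (n + 1)) ≫ M.d (n + 1) (n + 1 + 1))

noncomputable abbrev zcyc (σ : ∀ m : ℤ, Idx A J k → (separator A ⟶ M.X m)) (n : ℤ) :
    cyc M σ n ⟶ M.X (n + 1) :=
  kernel.ι _ ≫ Sigma.desc (σ (n + 1))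

noncomputable abbrev lifts (σ : ∀ m : ℤ, Idx A J k → (separator A ⟶ M.X m)) (n : ℤ) : A :=
  pullback (M.d n (n + 1)) (zcyc M σ n)

noncomputable abbrev proj (σ : ∀ m : ℤ, Idx A J k → (separator A ⟶ M.X m)) (n : ℤ) :
    lifts M σ n ⟶ stage A J k :=
  pullback.snd _ _ ≫ kernel.ι _

open Classical in
/-- A lift which avoids the given subobject, if possible. -/
noncomputable def choice (σ : ∀ m : ℤ, Idx A J k → (separator A ⟶ M.X m)) (n : ℤ)
    (R : Subobject (stage A J k)) : separator A ⟶ lifts M σ n :=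
  if h : ∃ u : separator A ⟶ lifts M σ n, u ≫ proj M σ n ≫ cokernel.π R.arrow ≠ 0 then h.choose
  else 0

lemma comp_proj_eq_zero (σ : ∀ m : ℤ, Idx A J k → (separator A ⟶ M.X m)) (n : ℤ)
    (R : Subobject (stage A J k)) (h : choice M σ n R ≫ proj M σ n ≫ cokernel.π R.arrow = 0) :
    proj M σ n ≫ cokernel.π R.arrow = 0 := by
  refine (isSeparator_separator A).def _ _ fun u => ?_
  rw [comp_zero]
  by_contra hu
  have he : ∃ u : separator A ⟶ lifts M σ n, u ≫ proj M σ n ≫ cokernel.π R.arrow ≠ 0 := ⟨u, hu⟩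
  rw [choice, dif_pos he] at h
  exact he.choose_spec h

/-- One step of the closure. -/
noncomputable def step (σ : ∀ m : ℤ, Idx A J k → (separator A ⟶ M.X m)) (n : ℤ) :
    Idx A J (k + 1) → (separator A ⟶ M.X n)
  | .inl i => σ n i
  | .inr (.inl i) => σ (n - 1) i ≫ M.d (n - 1) n
  | .inr (.inr r) => choice M σ n ((equivShrink _).symm r) ≫ pullback.fst _ _

lemma epi_snd (hM : M.Acyclic) (σ : ∀ m : ℤ, Idx A J k → (separator A ⟶ M.X m)) (n : ℤ) :
    Epi (pullback.snd (M.d n (n + 1)) (zcyc M σ n)) := by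
  have hex : (HomologicalComplex.sc' M n (n + 1) (n + 1 + 1)).Exact :=
    (HomologicalComplex.exactAt_iff' _ n (n + 1) (n + 1 + 1) (by simp) (by simp)).1 (hM (n + 1))
  obtain ⟨Q, π, hπ, x, fac⟩ := hex.exact_up_to_refinements (zcyc M σ n)
    ((Category.assoc _ _ _).trans (kernel.condition _))
  exact epi_of_epi_fac (pullback.lift_snd x π fac.symm)

lemma step_spec (hM : M.Acyclic) (σ : ∀ m : ℤ, Idx A J k → (separator A ⟶ M.X m)) (n : ℤ) :
    zcyc M σ n ≫ cokernel.π (Sigma.desc (step M σ n) ≫ M.d n (n + 1)) = 0 := by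
  let T : (∐ fun _ : Shrink.{v} (Subobject (stage A J k)) => separator A) ⟶ stage A J k :=
    Sigma.desc fun r => choice M σ n ((equivShrink _).symm r) ≫ proj M σ n
  let R := imageSubobject T
  have hT : T ≫ cokernel.π R.arrow = 0 := by
    rw [← imageSubobject_arrow_comp T, Category.assoc, cokernel.condition, comp_zero]
  have hR : proj M σ n ≫ cokernel.π R.arrow = 0 := by
    refine comp_proj_eq_zero M σ n R ?_
    have := Sigma.ι (fun _ => separator A) (equivShrink _ R) ≫= hT
    rw [comp_zero] at this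
    simpa [T] using this
  have hK : kernel.ι (Sigma.desc (σ (n + 1)) ≫ M.d (n + 1) (n + 1 + 1)) ≫
      cokernel.π R.arrow = 0 := by
    have := epi_snd M hM σ n
    rw [← cancel_epi (pullback.snd (M.d n (n + 1)) (zcyc M σ n)), comp_zero, ← Category.assoc]
    exact hR
  let q := cokernel.π (Sigma.desc (step M σ n) ≫ M.d n (n + 1))
  have hq : R.arrow ≫ Sigma.desc (σ (n + 1)) ≫ q = 0 := by
    rw [← cancel_epi (factorThruImageSubobject T), imageSubobject_arrow_comp_assoc, comp_zero]
    refine Sigma.hom_ext _ _ fun r => ?_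
    have h := comp_of_sigma_desc_comp (g := step M σ n)
      (h := M.d n (n + 1) ≫ cokernel.π (Sigma.desc (step M σ n) ≫ M.d n (n + 1)))
      (by rw [← Category.assoc, cokernel.condition]) (Sum.inr (Sum.inr r) : Idx A J (k + 1))
    simp only [T, Sigma.ι_desc_assoc, comp_zero, proj, Category.assoc]
    simp only [step, Category.assoc, pullback.condition_assoc, zcyc] at h
    exact h
  obtain ⟨Q, π, hπ, x, fac⟩ := (ShortComplex.exact_cokernel R.arrow).exact_up_to_refinements _ hK
  dsimp at fac
  rw [← cancel_epi π, comp_zero, Category.assoc, reassoc_of% fac, hq, comp_zero]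

variable (seed : ∀ m : ℤ, J → (separator A ⟶ M.X m))

/-- All the stages. -/
noncomputable def family : ∀ k : ℕ, ∀ m : ℤ, Idx A J k → (separator A ⟶ M.X m)
  | 0 => seed
  | k + 1 => step M (family k)

/-- The union of all stages. -/
noncomputable def total (m : ℤ) : bound A J ⟶ M.X m :=
  Sigma.desc fun p => family M seed p.1 m p.2

/-- The endomorphism of the bound covering the differential. -/
noncomputable def shiftBound (J : Type v) : bound A J ⟶ bound A J :=
  Sigma.desc fun p => Sigma.ι (fun _ : (Σ k : ℕ, Idx A J k) => separator A)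
    ⟨p.1 + 1, Sum.inr (Sum.inl p.2)⟩

lemma total_comm (n : ℤ) :
    shiftBound J ≫ total M seed (n + 1) = total M seed n ≫ M.d n (n + 1) := by
  refine Sigma.hom_ext _ _ fun p => ?_
  have h : ∀ m, m = n → family M seed p.1 m p.2 ≫ M.d m (n + 1) =
      family M seed p.1 n p.2 ≫ M.d n (n + 1) := by
    rintro m rfl; rfl
  simp only [shiftBound, total, Sigma.ι_desc, Sigma.ι_desc_assoc, family, step]
  exact h _ (by simp)

lemma total_exact (hM : M.Acyclic) (n : ℤ) :
    kernel.ι (total M seed (n + 1) ≫ M.d (n + 1) (n + 1 + 1)) ≫ total M seed (n + 1) ≫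
      cokernel.π (total M seed n ≫ M.d n (n + 1)) = 0 := by
  have : AB5OfSize.{0, 0} A := AB5OfSize_of_univLE A
  have : IsConnected ℕ := IsFiltered.isConnected ℕ
  let G : ℕ ⥤ A := Functor.ofSequence (X := stage A J)
    fun k => Sigma.desc fun i => Sigma.ι (fun _ : Idx A J (k + 1) => separator A) (Sum.inl i)
  let τ (m : ℤ) : G ⟶ (Functor.const ℕ).obj (M.X m) :=
    NatTrans.ofSequence (fun k => Sigma.desc (family M seed k m)) (fun k => by
      simp only [G, Functor.ofSequence_map_homOfLE_succ, Functor.const_obj_map]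
      refine Sigma.hom_ext _ _ fun i => ?_
      erw [Sigma.ι_desc_assoc, Sigma.ι_desc, Category.comp_id, Sigma.ι_desc]
      rfl)
  let α : G ⟶ (Functor.const ℕ).obj (M.X (n + 1 + 1)) :=
    τ (n + 1) ≫ (Functor.const ℕ).map (M.d (n + 1) (n + 1 + 1))
  let f : colimit (kernel α) ⟶ colimit G := colimMap (kernel.ι α)
  let g : colimit G ⟶ M.X (n + 1 + 1) := colimit.desc G { pt := _, ι := α }
  have hexact := colim.exact_mapShortComplex
    ((ShortComplex.mk _ _ (kernel.condition α)).exact_of_f_is_kernel (kernelIsKernel α))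
    (colimit.isColimit _) (colimit.isColimit G) (isColimitConstCocone ℕ _) f g
    (fun k => by simp [f]) (fun k => by simp only [g]; erw [colimit.ι_desc]; exact (Category.comp_id _).symm)
  let q := cokernel.π (total M seed n ≫ M.d n (n + 1))
  let φ : colimit G ⟶ M.X (n + 1) :=
    colimit.desc G { pt := _, ι := τ (n + 1) }
  let p : bound A J ⟶ colimit G :=
    Sigma.desc fun i => Sigma.ι (fun _ : Idx A J i.1 => separator A) i.2 ≫ colimit.ι G i.1
  have hp : p ≫ φ = total M seed (n + 1) := Sigma.hom_ext _ _ fun i => by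
    simp only [p, φ, Sigma.ι_desc_assoc, Category.assoc]
    erw [colimit.ι_desc]
    simp [total, τ]
  have hφ : φ ≫ M.d (n + 1) (n + 1 + 1) = g := colimit.hom_ext fun k => by
    simp [φ, g, α]
  have hfφ : f ≫ φ ≫ q = 0 := colimit.hom_ext fun k => by
    have hk : (kernel.ι α).app k ≫ Sigma.desc (family M seed k (n + 1)) ≫
        M.d (n + 1) (n + 1 + 1) = 0 := by
      exact congrArg (fun e : kernel α ⟶ _ => e.app k) (kernel.condition α)
    obtain ⟨l, hl⟩ : ∃ l, l ≫ kernel.ι _ = (kernel.ι α).app k := ⟨kernel.lift _ _ hk, by simp⟩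
    have hq : (Sigma.desc (family M seed (k + 1) n) ≫ M.d n (n + 1)) ≫ q = 0 := by
      refine Sigma.hom_ext _ _ fun i => ?_
      have := comp_of_sigma_desc_comp (g := fun p : Σ k : ℕ, Idx A J k => family M seed p.1 n p.2)
        (h := M.d n (n + 1) ≫ q)
        (by rw [← Category.assoc]; exact cokernel.condition _) ⟨k + 1, i⟩
      simpa using this
    have hc : zcyc M (family M seed k) n ≫ q = 0 := by
      rw [← cokernel.π_desc _ _ hq, ← Category.assoc]
      simp only [family]
      rw [step_spec M hM, zero_comp]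
    simp only [f, φ, ι_colimMap_assoc, colimit.ι_desc_assoc, comp_zero]
    change (kernel.ι α).app k ≫ Sigma.desc (family M seed k (n + 1)) ≫ q = 0
    rw [zcyc, Category.assoc] at hc
    rw [← hl, Category.assoc]
    erw [hc]
    exact comp_zero
  obtain ⟨Q, π, hπ, x, fac⟩ := hexact.exact_up_to_refinements
    (kernel.ι (total M seed (n + 1) ≫ M.d (n + 1) (n + 1 + 1)) ≫ p)
    (by
      change (_ ≫ p) ≫ g = 0
      rw [← hφ, Category.assoc, reassoc_of% hp, kernel.condition])
  change π ≫ _ ≫ p = x ≫ f at fac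
  have h := fac =≫ (φ ≫ q)
  simp only [Category.assoc, reassoc_of% hp] at h
  rw [← cancel_epi π, comp_zero, h]
  erw [hfφ]
  exact comp_zero

lemma ι_total (j : J) (m : ℤ) :
    Sigma.ι (fun _ : Bd A J => separator A) ⟨0, j⟩ ≫ total M seed m = seed m j := by
  simp [total, family]

/-- A subcomplex whose terms are covered by the closure is acyclic. -/
lemma acyclic_of_total (hM : M.Acyclic) {T : CochainComplex A ℤ} (j : T ⟶ M) [Mono j]
    (a : ∀ m : ℤ, bound A J ⟶ T.X m) [∀ m, Epi (a m)] (ha : ∀ m, a m ≫ j.f m = total M seed m) :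
    T.Acyclic := by
  have : ∀ m, Mono (j.f m) := fun m =>
    inferInstanceAs (Mono ((HomologicalComplex.eval A _ m).map j))
  intro n
  obtain ⟨m, rfl⟩ : ∃ m, m + 1 = n := ⟨n - 1, by lia⟩
  rw [HomologicalComplex.exactAt_iff' _ m (m + 1) (m + 1 + 1) (by simp) (by simp),
    ShortComplex.exact_iff_exact_up_to_refinements]
  intro Q y hy
  change Q ⟶ T.X (m + 1) at y
  change y ≫ T.d (m + 1) (m + 1 + 1) = 0 at hy
  obtain ⟨Q₁, π₁, hπ₁, b, hb⟩ := surjective_up_to_refinements_of_epi (a (m + 1)) y
  have hb₀ : b ≫ total M seed (m + 1) ≫ M.d (m + 1) (m + 1 + 1) = 0 := by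
    rw [← ha, Category.assoc, j.comm, ← reassoc_of% hb, reassoc_of% hy, zero_comp, comp_zero]
  have hb₁ : b ≫ total M seed (m + 1) ≫
      cokernel.π (total M seed m ≫ M.d m (m + 1)) = 0 := by
    rw [← kernel.lift_ι (total M seed (m + 1) ≫ M.d (m + 1) (m + 1 + 1)) b hb₀, Category.assoc,
      total_exact M seed hM m, comp_zero]
  obtain ⟨Q₂, π₂, hπ₂, c, hc⟩ := (ShortComplex.exact_cokernel
    (total M seed m ≫ M.d m (m + 1))).exact_up_to_refinements (b ≫ total M seed (m + 1))
      (by rw [Category.assoc]; exact hb₁)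
  dsimp at hc
  refine ⟨Q₂, π₂ ≫ π₁, inferInstance, c ≫ a m, ?_⟩
  change (π₂ ≫ π₁) ≫ y = (c ≫ a m) ≫ T.d m (m + 1)
  rw [← cancel_mono (j.f (m + 1))]
  simp only [Category.assoc, ← j.comm]
  rw [reassoc_of% hb, ha, reassoc_of% (ha m)]
  exact hc

end Closure

variable (A) in
/-- Complexes made of quotients of the free object on `J`. -/
structure Cx (J : Type v) : Type v where
  R : ℤ → Shrink.{v} (Subobject (free A J))
  d : ∀ m : ℤ, cokernel ((equivShrink _).symm (R m)).arrow ⟶
    cokernel ((equivShrink _).symm (R (m + 1))).arrow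
  d_comp_d : ∀ m : ℤ, d m ≫ d (m + 1) = 0

/-- The complex attached to `s : Cx A J`. -/
noncomputable def Cx.complex {J : Type v} (s : Cx A J) : CochainComplex A ℤ :=
  CochainComplex.of (fun m => cokernel ((equivShrink _).symm (s.R m)).arrow) s.d s.d_comp_d

/-- The generators of `s : Cx A J`. -/
noncomputable def Cx.p {J : Type v} (s : Cx A J) (m : ℤ) : free A J ⟶ s.complex.X m :=
  cokernel.π ((equivShrink _).symm (s.R m)).arrow

instance {J : Type v} (s : Cx A J) (m : ℤ) : Epi (s.p m) :=
  inferInstanceAs (Epi (cokernel.π _))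

/-- A family of maps closed under the differential spans a subcomplex. -/
theorem exists_cx (M : CochainComplex A ℤ) {J : Type v} (t : ∀ m : ℤ, free A J ⟶ M.X m)
    (ψ : ∀ m : ℤ, free A J ⟶ free A J) (hψ : ∀ m, ψ m ≫ t (m + 1) = t m ≫ M.d m (m + 1)) :
    ∃ (s : Cx A J) (ι : s.complex ⟶ M), Mono ι ∧ ∀ m, s.p m ≫ ι.f m = t m := by
  let R (m : ℤ) : Shrink.{v} (Subobject (free A J)) := equivShrink _ (kernelSubobject (t m))
  let r (m : ℤ) : Subobject (free A J) := (equivShrink _).symm (R m)
  have hr : ∀ m, r m = kernelSubobject (t m) := fun m => Equiv.symm_apply_apply _ _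
  have hcond : ∀ m, (r m).arrow ≫ t m = 0 := by
    intro m
    have : ∀ R, R = kernelSubobject (t m) → R.arrow ≫ t m = 0 := by
      rintro _ rfl; exact kernelSubobject_arrow_comp _
    exact this _ (hr m)
  have hexact : ∀ m, (ShortComplex.mk _ _ (hcond m)).Exact := by
    intro m
    have : ∀ (R : Subobject (free A J)) (h : R.arrow ≫ t m = 0),
        R = kernelSubobject (t m) → (ShortComplex.mk _ _ h).Exact := by
      rintro _ _ rfl
      rw [ShortComplex.exact_iff_exact_up_to_refinements]
      exact fun Q y hy => ⟨Q, 𝟙 Q, inferInstance, factorThruKernelSubobject _ y hy, by simp⟩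
    exact this _ _ (hr m)
  let ι (m : ℤ) : cokernel (r m).arrow ⟶ M.X m := cokernel.desc _ _ (hcond m)
  have hι : ∀ m, Mono (ι m) := fun m => (hexact m).mono_cokernelDesc
  let d (m : ℤ) : cokernel (r m).arrow ⟶ cokernel (r (m + 1)).arrow :=
    cokernel.desc _ (ψ m ≫ cokernel.π _) (by
      rw [← cancel_mono (ι (m + 1))]
      simp [ι, hψ, reassoc_of% (hcond m)])
  have hd : ∀ m, d m ≫ ι (m + 1) = ι m ≫ M.d m (m + 1) := by
    intro m
    rw [← cancel_epi (cokernel.π (r m).arrow)]
    simp [ι, d, hψ]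
  have hdd : ∀ m, d m ≫ d (m + 1) = 0 := fun m => by
    rw [← cancel_mono (ι (m + 1 + 1)), Category.assoc, hd, reassoc_of% (hd m),
      HomologicalComplex.d_comp_d, comp_zero, zero_comp]
  let s : Cx A J := { R := R, d := d, d_comp_d := hdd }
  let ιc : s.complex ⟶ M :=
    { f := ι
      comm' := by
        rintro i j (rfl : i + 1 = j)
        simp only [Cx.complex, CochainComplex.of_d]
        exact (hd i).symm }
  have hmono : ∀ m, Mono (ιc.f m) := hι
  exact ⟨s, ιc, HomologicalComplex.mono_of_mono_f _ hmono, fun m => cokernel.π_desc _ _ _⟩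

variable (A) in
/-- Small acyclic complexes. -/
def Small : Type v := { s : Cx A (Bd A PUnit.{v + 1}) // s.complex.Acyclic }

/-- The complex attached to `s : Small A`. -/
noncomputable def Small.complex (s : Small A) : CochainComplex A ℤ := s.1.complex

lemma Small.acyclic (s : Small A) : s.complex.Acyclic := s.2

/-- Every element of an acyclic complex lies in a small acyclic subcomplex. -/
theorem exists_small_subcomplex (M : CochainComplex A ℤ) (hM : M.Acyclic) (n : ℤ)
    (x : separator A ⟶ M.X n) :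
    ∃ (s : Small A) (ι : s.complex ⟶ M) (y : separator A ⟶ s.complex.X n),
      Mono ι ∧ y ≫ ι.f n = x := by
  let seed (m : ℤ) : PUnit.{v + 1} → (separator A ⟶ M.X m) := fun _ =>
    if h : n = m then x ≫ (M.XIsoOfEq h).hom else 0
  obtain ⟨s, ι, hι, hp⟩ := exists_cx M (Closure.total M seed) (fun _ => Closure.shiftBound _)
    (Closure.total_comm M seed)
  refine ⟨⟨s, Closure.acyclic_of_total M seed hM ι s.p hp⟩, ι,
    Sigma.ι (fun _ : Bd A PUnit.{v + 1} => separator A) ⟨0, PUnit.unit⟩ ≫ s.p n, hι, ?_⟩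
  refine (Category.assoc _ _ _).trans ?_
  erw [hp, Closure.ι_total]
  simp [seed]

end Groth.Agent.H16Derived.KInjRes
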