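import Groth.Agent.H16Derived.KInjRes.SmallObject
import Mathlib.Algebra.Homology.HomologySequenceLemmas
import Groth.Agent.H16Derived.KInjRes.SmallAcyclic
import Mathlib.CategoryTheory.Preadditive.Injective.LiftingProperties

/-!
# Functorial K-injective resolutions in Grothendieck abelian categories
-/

universe v u

open CategoryTheory CategoryTheory.Limits CategoryTheory.MorphismProperty
open scoped ZeroObject

namespace Groth.Agent.H16Derived.KInjRes

open Lifting

variable {A : Type u} [Category.{v} A] [Abelian A]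

lemma shortExact_cokernel {X Y : CochainComplex A ℤ} (f : X ⟶ Y) [Mono f] :
    (ShortComplex.mk f (cokernel.π f) (cokernel.condition f)).ShortExact :=
  { exact := ShortComplex.exact_cokernel f }

lemma quasiIso_of_mono {X Y : CochainComplex A ℤ} (f : X ⟶ Y) [Mono f]
    (h : (cokernel f).Acyclic) : QuasiIso f := by
  have hS := shortExact_cokernel f
  have h0 : ∀ n, IsZero ((cokernel f).homology n) := fun n =>
    (HomologicalComplex.exactAt_iff_isZero_homology _ _).1 (h n)
  refine ⟨fun i => (quasiIsoAt_iff_isIso_homologyMap f i).2 ?_⟩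
  have h₁ : Mono (HomologicalComplex.homologyMap f i) :=
    (hS.homology_exact₁ (i - 1) i (by simp)).mono_g ((h0 _).eq_of_src _ _)
  have h₂ : Epi (HomologicalComplex.homologyMap f i) :=
    (hS.homology_exact₂ i).epi_f ((h0 _).eq_of_tgt _ _)
  exact isIso_of_mono_of_epi _

instance mono_inr (K : CochainComplex A ℤ) : Mono (CochainComplex.mappingCone.inr (𝟙 K)) :=
  HomologicalComplex.mono_of_mono_f _ fun p =>
    mono_of_mono_fac (CochainComplex.mappingCone.inr_f_snd_v (𝟙 K) p)

lemma acyclic_cokernel_inr {K : CochainComplex A ℤ} (hK : K.Acyclic) :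
    (cokernel (CochainComplex.mappingCone.inr (𝟙 K))).Acyclic :=
  Lifting.acyclic_X₃ (shortExact_cokernel _) hK
    (acyclic_of_homotopy_id_zero (TermwiseSplit.homotopyIdZero K))

lemma nonempty_homotopy_zero_of_extends {K I : CochainComplex A ℤ} (f : K ⟶ I)
    (h : ∃ ψ, CochainComplex.mappingCone.inr (𝟙 K) ≫ ψ = f) : Nonempty (Homotopy f 0) := by
  obtain ⟨ψ, hψ⟩ := h
  exact ⟨(Homotopy.ofEq (show f = CochainComplex.mappingCone.inr (𝟙 K) ≫ 𝟙 _ ≫ ψ by simp [hψ])).trans
    ((((TermwiseSplit.homotopyIdZero K).compRight ψ).compLeft _).trans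
      (Homotopy.ofEq (by simp)))⟩

variable [IsGrothendieckAbelian.{v} A]

/-- An object is injective as soon as it has the extension property along subobjects of the
separator. -/
lemma injective_of_baer (X : A)
    (h : ∀ (V : Subobject (separator A)) (g : (V : A) ⟶ X), ∃ g', V.arrow ≫ g' = g) :
    Injective X := by
  rw [injective_iff_rlp_monomorphisms_zero,
    ← IsGrothendieckAbelian.generatingMonomorphisms_rlp.{v} (isSeparator_separator A)]
  rintro _ _ _ ⟨V⟩
  refine ⟨fun {t b} sq => ?_⟩
  obtain ⟨g', hg'⟩ := h V t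
  exact ⟨⟨{ l := g', fac_left := hg', fac_right := (isZero_zero A).eq_of_tgt _ _ }⟩⟩

variable (A) in
/-- The index of the generating monomorphisms with acyclic cokernel. -/
abbrev GenIdx : Type v := (Shrink.{v} (Subobject (separator A)) × ℤ) ⊕ Small A

/-- The sources of the generating monomorphisms. -/
noncomputable def genSrc : GenIdx A → CochainComplex A ℤ
  | .inl p => disk (((equivShrink _).symm p.1 : Subobject (separator A)) : A) p.2
  | .inr s => s.complex

/-- The targets of the generating monomorphisms. -/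
noncomputable def genTgt : GenIdx A → CochainComplex A ℤ
  | .inl p => disk (separator A) p.2
  | .inr s => CochainComplex.mappingCone (𝟙 s.complex)

/-- The generating monomorphisms with acyclic cokernel. -/
noncomputable def gen : ∀ k : GenIdx A, genSrc k ⟶ genTgt k
  | .inl p => diskMap ((equivShrink _).symm p.1 : Subobject (separator A)).arrow p.2
  | .inr s => CochainComplex.mappingCone.inr (𝟙 s.complex)

instance mono_gen : ∀ k : GenIdx A, Mono (gen k)
  | .inl _ => mono_diskMap _ _
  | .inr s => mono_inr s.complex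

lemma acyclic_cokernel_gen : ∀ k : GenIdx A, (cokernel (gen k)).Acyclic
  | .inl p =>
    have := mono_diskMap ((equivShrink _).symm p.1 : Subobject (separator A)).arrow p.2
    Lifting.acyclic_X₃ (shortExact_cokernel _) (acyclic_disk _ _) (acyclic_disk _ _)
  | .inr s => acyclic_cokernel_inr s.acyclic

/-- The extension property with respect to the generating monomorphisms. -/
def IsFibrant (I : CochainComplex A ℤ) : Prop :=
  ∀ (k : GenIdx A) (φ : genSrc k ⟶ I), ∃ ψ : genTgt k ⟶ I, gen k ≫ ψ = φ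

namespace IsFibrant

variable {I : CochainComplex A ℤ} (hI : IsFibrant I)

include hI

lemma injective (n : ℤ) : Injective (I.X n) := by
  refine injective_of_baer _ fun V g => ?_
  obtain ⟨r, rfl⟩ := (equivShrink.{v} (Subobject (separator A))).symm.surjective V
  let e := HomologicalComplex.evalCompCoyonedaCorepresentableByDoubleId (rel n)
    (by lia : n ≠ n + 1) (((equivShrink _).symm r : Subobject (separator A)) : A)
  obtain ⟨ψ, hψ⟩ := hI (.inl (r, n)) (e.homEquiv.symm g)
  refine ⟨(HomologicalComplex.doubleXIso₀ (𝟙 (separator A)) (rel n)).inv ≫ ψ.f n, ?_⟩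
  have hh := (congrArg e.homEquiv hψ).trans (e.homEquiv.apply_symm_apply g)
  simp only [e, HomologicalComplex.evalCompCoyonedaCorepresentableByDoubleId_homEquiv_apply,
    HomologicalComplex.comp_f, gen, diskMap] at hh
  erw [HomologicalComplex.mkHomFromDouble_f₀_assoc] at hh
  erw [Iso.inv_hom_id_assoc] at hh
  exact (Category.assoc _ _ _).symm.trans hh

lemma nonempty_homotopy_small (s : Small A) (f : s.complex ⟶ I) : Nonempty (Homotopy f 0) :=
  nonempty_homotopy_zero_of_extends f (hI (.inr s) f)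

lemma exists_lift (hK : I.Acyclic) (n : ℤ) (w : separator A ⟶ I.X (n + 1))
    (hw : w ≫ I.d (n + 1) (n + 1 + 1) = 0) :
    ∃ l : separator A ⟶ I.X n, l ≫ I.d n (n + 1) = w ∧
      ∀ {Q : A} (q : Q ⟶ separator A), q ≫ w = 0 → q ≫ l = 0 := by
  obtain ⟨s, ι, y, hι, hy⟩ := exists_small_subcomplex I hK (n + 1) w
  obtain ⟨h⟩ := hI.nonempty_homotopy_small s ι
  have : ∀ m, Mono (ι.f m) := fun m =>
    inferInstanceAs (Mono ((HomologicalComplex.eval A _ m).map ι))
  have hy' : y ≫ s.complex.d (n + 1) (n + 1 + 1) = 0 := by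
    rw [← cancel_mono (ι.f (n + 1 + 1)), Category.assoc, ← ι.comm, reassoc_of% hy, hw, zero_comp]
  refine ⟨y ≫ h.hom (n + 1) n, ?_, fun q hq => ?_⟩
  · have hc := h.comm (n + 1)
    rw [dNext_eq h.hom (show (ComplexShape.up ℤ).Rel (n + 1) (n + 1 + 1) from rfl),
      prevD_eq h.hom (show (ComplexShape.up ℤ).Rel n (n + 1) from rfl)] at hc
    rw [← hy, hc]
    simp [reassoc_of% hy']
  · have hqy : q ≫ y = 0 := by
      rw [← cancel_mono (ι.f (n + 1)), Category.assoc, hy, hq, zero_comp]
    rw [reassoc_of% hqy, zero_comp]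

lemma injective_cycles (hK : I.Acyclic) (n : ℤ) : Injective (kernel (I.d n (n + 1))) := by
  refine injective_of_baer _ fun V g => ?_
  have := hI.injective n
  let f := Injective.factorThru (g ≫ kernel.ι _) V.arrow
  have hf : V.arrow ≫ f = g ≫ kernel.ι _ := Injective.comp_factorThru _ _
  obtain ⟨l, hl, hl'⟩ := hI.exists_lift hK n (f ≫ I.d n (n + 1)) (by simp)
  refine ⟨kernel.lift _ (f - l) (by rw [Preadditive.sub_comp, hl, sub_self]), ?_⟩
  rw [← cancel_mono (kernel.ι (I.d n (n + 1))), Category.assoc, kernel.lift_ι,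
    Preadditive.comp_sub, hl' V.arrow (by rw [reassoc_of% hf, kernel.condition, comp_zero]), hf,
    sub_zero]

/-- A fibrant acyclic complex is contractible. -/
lemma nonempty_homotopy_id_zero (hK : I.Acyclic) : Nonempty (Homotopy (𝟙 I) 0) := by
  let Z (n : ℤ) : A := kernel (I.d n (n + 1))
  let i (n : ℤ) : Z n ⟶ I.X n := kernel.ι _
  let p (n : ℤ) : I.X n ⟶ Z (n + 1) := kernel.lift _ (I.d n (n + 1)) (I.d_comp_d _ _ _)
  have hpi : ∀ n, p n ≫ i (n + 1) = I.d n (n + 1) := fun n => kernel.lift_ι _ _ _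
  have hZ : ∀ n, Injective (Z n) := fun n => hI.injective_cycles hK n
  have hep : ∀ n, Epi (p n) := fun n => by
    have hex : (HomologicalComplex.sc' I n (n + 1) (n + 1 + 1)).Exact :=
      (HomologicalComplex.exactAt_iff' _ n (n + 1) (n + 1 + 1) (by simp) (by simp)).1 (hK (n + 1))
    obtain ⟨Q, π, hπ, x, fac⟩ := hex.exact_up_to_refinements (i (n + 1)) (kernel.condition _)
    change Q ⟶ I.X n at x
    refine epi_of_epi_fac (h := π) (f := x) ?_
    rw [← cancel_mono (i (n + 1)), Category.assoc, hpi]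
    exact fac.symm
  have hip : ∀ n, i n ≫ p n = 0 := fun n => by
    rw [← cancel_mono (i (n + 1)), Category.assoc, hpi, zero_comp]
    exact kernel.condition _
  have hS : ∀ n, (ShortComplex.mk (i n) (p n) (hip n)).ShortExact := fun n =>
    { exact := (ShortComplex.exact_iff_exact_up_to_refinements _).2 fun Q x hx =>
        ⟨Q, 𝟙 Q, inferInstance, kernel.lift _ x (by
          dsimp at hx
          rw [← hpi, reassoc_of% hx, zero_comp]), by simp [i]⟩
      mono_f := by dsimp [i]; infer_instance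
      epi_g := hep n }
  let σ (n : ℤ) := (hS n).splittingOfInjective
  let hom (a b : ℤ) : I.X a ⟶ I.X b :=
    if h : b + 1 = a then (I.XIsoOfEq h).inv ≫ (σ (b + 1)).r ≫ (σ b).s else 0
  refine ⟨{ hom := hom, zero := fun a b hab => dif_neg hab, comm := fun a => ?_ }⟩
  obtain ⟨m, rfl⟩ : ∃ m, m + 1 = a := ⟨a - 1, by lia⟩
  rw [dNext_eq hom (show (ComplexShape.up ℤ).Rel (m + 1) (m + 1 + 1) from rfl),
    prevD_eq hom (show (ComplexShape.up ℤ).Rel m (m + 1) from rfl)]
  simp only [hom, dite_true, HomologicalComplex.XIsoOfEq_rfl, Iso.refl_inv, Category.id_comp,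
    HomologicalComplex.zero_f, add_zero, HomologicalComplex.id_f]
  rw [← hpi, ← hpi, Category.assoc, Category.assoc]
  have e₁ : i (m + 1 + 1) ≫ (σ (m + 1 + 1)).r = 𝟙 _ := (σ (m + 1 + 1)).f_r
  have e₂ : (σ m).s ≫ p m = 𝟙 _ := (σ m).s_g
  rw [reassoc_of% e₁, reassoc_of% e₂]
  exact ((σ (m + 1)).id.symm.trans (add_comm _ _))

end IsFibrant

/-- Functorial K-injective resolutions by complexes of injectives, adapted to a given small
family of monomorphisms with acyclic cokernel. -/
theorem exists_resolution_functor :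
    ∃ (N : CochainComplex A ℤ ⥤ CochainComplex A ℤ) (j : 𝟭 _ ⟶ N),
      ∀ M : CochainComplex A ℤ, Mono (j.app M) ∧ QuasiIso (j.app M) ∧ (N.obj M).IsKInjective ∧
        ∀ n, Injective ((N.obj M).X n) := by
  obtain ⟨N, j, h⟩ := exists_functorial (gen (A := A)) acyclic_cokernel_gen
  have hfib : ∀ M, IsFibrant (N.obj M) := fun M => (h M).2.2.2
  refine ⟨N, j, fun M => ?_⟩
  have := (h M).1
  refine ⟨this, quasiIso_of_mono _ (h M).2.1, ⟨fun {K} f hK => ?_⟩, (hfib M).injective⟩
  have := (h K).1
  have hN : (N.obj K).Acyclic :=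
    ShortComplex.ShortExact.acyclic_X₂ (shortExact_cokernel (j.app K)) hK (h K).2.1
  obtain ⟨c⟩ := (hfib K).nonempty_homotopy_id_zero hN
  have hp : (ofHoms (gen (A := A))).rlp (0 : N.obj M ⟶ 0) := by
    rintro _ _ _ ⟨k⟩
    refine ⟨fun {t b} sq => ?_⟩
    obtain ⟨ψ, hψ⟩ := hfib M k t
    exact ⟨⟨{ l := ψ, fac_left := hψ, fac_right := (isZero_zero _).eq_of_tgt _ _ }⟩⟩
  have := (h K).2.2.1 _ hp
  have sq : CommSq f (j.app K) (0 : N.obj M ⟶ 0) 0 := ⟨(isZero_zero _).eq_of_tgt _ _⟩
  exact ⟨(Homotopy.ofEq (show f = j.app K ≫ 𝟙 _ ≫ sq.lift by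
      rw [Category.id_comp]; exact sq.fac_left.symm)).trans
    (((c.compRight sq.lift).compLeft (j.app K)).trans (Homotopy.ofEq (by simp)))⟩

end Groth.Agent.H16Derived.KInjRes
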