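import Groth.Agent.H16Derived.KInjRes.Products
import Groth.Agent.H16Derived.QCohD.Tower
import Mathlib.Algebra.Homology.DerivedCategory.DerivabilityStructureInjectives
import Mathlib.CategoryTheory.Abelian.GrothendieckAxioms.Basic

/-!
# Countable products in derived categories; K-injective resolutions from exact countable products
-/

set_option autoImplicit false
set_option linter.style.haveILetI false
set_option linter.unusedSectionVars false

universe t w v u

open CategoryTheory CategoryTheory.Limits CategoryTheory.Pretriangulated CochainComplex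
  CategoryTheory.Triangulated DerivedCategory DerivedCategory.TStructure

namespace Groth.Agent.H16Derived.KInjRes.Countable

variable {A : Type u} [Category.{v} A] [Abelian A]

/-- A cone of K-injective complexes is K-injective. -/
theorem isKInjective_mappingCone {K L : CochainComplex A ℤ} (φ : K ⟶ L) (hK : K.IsKInjective)
    (hL : L.IsKInjective) : (mappingCone φ).IsKInjective := by
  let S := mappingCone.triangleRotateShortComplex φ
  let σ := mappingCone.triangleRotateShortComplexSplitting φ
  have h₃ : S.X₃.IsKInjective := (isKInjective_shift_iff K 1).2 hK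
  rw [CochainComplex.isKInjective_iff_rightOrthogonal] at hL h₃ ⊢
  exact ObjectProperty.ext_of_isTriangulatedClosed₂ _ (CochainComplex.trianglehOfDegreewiseSplit S σ)
    ((HomotopyCategory.distinguished_iff_iso_trianglehOfDegreewiseSplit _).2 ⟨S, σ, ⟨Iso.refl _⟩⟩)
    hL h₃

section Derived

variable [HasDerivedCategory.{w} A]

/-- A bounded below object is represented by a bounded below complex of injectives. -/
theorem exists_injective_iso_of_isGE [EnoughInjectives A] (K : DerivedCategory A) (a : ℤ)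
    [K.IsGE a] : ∃ (I : CochainComplex A ℤ) (_ : I.IsKInjective),
      Nonempty (K ≅ DerivedCategory.Q.obj I) := by
  obtain ⟨L, hL, ⟨e⟩⟩ := DerivedCategory.exists_iso_Q_obj_of_isGE K a
  obtain ⟨J, i, hi, hJ, hg⟩ :=
    CochainComplex.Plus.modelCategoryQuillen.exists_quasiIso_injective L a
  haveI := hi
  haveI := hJ
  exact ⟨J, CochainComplex.isKInjective_of_injective J a,
    ⟨e ≪≫ asIso (DerivedCategory.Q.map i)⟩⟩

/-- `Q` sends products of K-injective complexes to products. -/
theorem nonempty_isLimit_Q {T : Type t} (I : T → CochainComplex A ℤ) (hI : ∀ i, (I i).IsKInjective)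
    (c : Fan I) (hc : IsLimit c) :
    Nonempty (IsLimit (Fan.mk (DerivedCategory.Q.obj c.pt) fun i => DerivedCategory.Q.map (c.proj i) :
      Fan fun i => DerivedCategory.Q.obj (I i))) := by
  haveI : CochainComplex.IsKInjective c.pt := isKInjective_of_fan c hc hI
  have hex : ∀ s : Fan (fun i => DerivedCategory.Q.obj (I i)), ∃ m : s.pt ⟶ DerivedCategory.Q.obj c.pt,
      ∀ i, m ≫ DerivedCategory.Q.map (c.proj i) = s.proj i := by
    intro s
    let e := DerivedCategory.Q.objObjPreimageIso s.pt
    choose g hg using fun i =>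
      have := hI i
      exists_Q_map_eq (e.hom ≫ s.proj i)
    refine ⟨e.inv ≫ DerivedCategory.Q.map (Fan.IsLimit.lift hc g), fun i => ?_⟩
    rw [Category.assoc, ← Functor.map_comp, Fan.IsLimit.fac, hg, Iso.inv_hom_id_assoc]
  refine ⟨Fan.IsLimit.mk _ (fun s => (hex s).choose) (fun s i => (hex s).choose_spec i)
    fun s m hm => ?_⟩
  let e := DerivedCategory.Q.objObjPreimageIso s.pt
  rw [← cancel_epi e.hom]
  obtain ⟨g₁, hg₁⟩ := exists_Q_map_eq (e.hom ≫ m)
  obtain ⟨g₂, hg₂⟩ := exists_Q_map_eq (e.hom ≫ (hex s).choose)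
  have hh := nonempty_homotopy_zero_of_fan c hc (g₁ - g₂) fun i => by
    have := hI i
    rw [Preadditive.sub_comp]
    apply nonempty_homotopy_of_Q_map_eq
    rw [Functor.map_comp, Functor.map_comp, hg₁, hg₂, Category.assoc, Category.assoc]
    exact congrArg (e.hom ≫ ·) ((hm i).trans ((hex s).choose_spec i).symm)
  rw [← hg₁, ← hg₂, ← sub_eq_zero, ← Functor.map_sub,
    DerivedCategory.Q_map_eq_of_homotopy A hh.some, Functor.map_zero]

/-- Countable families of bounded below objects have products. -/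
theorem hasProduct_of_isGE [HasLimitsOfShape (Discrete ℕ) A] [EnoughInjectives A]
    (K : ℕ → DerivedCategory A) (hK : ∀ n, ∃ a : ℤ, (K n).IsGE a) : HasProduct K := by
  choose a ha using hK
  choose I hI e using fun n => haveI := ha n; exists_injective_iso_of_isGE (K n) (a n)
  obtain ⟨h⟩ := nonempty_isLimit_Q I hI _ (productIsProduct I)
  haveI : HasProduct fun n => DerivedCategory.Q.obj (I n) := ⟨⟨⟨_, h⟩⟩⟩
  exact hasLimit_of_iso (Discrete.natIso fun n => ((e n.as).some).symm :
    Discrete.functor (fun n => DerivedCategory.Q.obj (I n)) ≅ Discrete.functor K)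

end Derived

section Homology

variable [HasLimitsOfShape (Discrete ℕ) A] [HasExactLimitsOfShape (Discrete ℕ) A]

/-- A sequence of complexes, as a complex of sequences. -/
noncomputable def seqCx (K : ℕ → CochainComplex A ℤ) : CochainComplex (Discrete ℕ ⥤ A) ℤ where
  X i := Discrete.functor fun n => (K n).X i
  d i j := Discrete.natTrans fun n => (K n.as).d i j
  shape i j h := NatTrans.ext (funext fun n => (K n.as).shape i j h)
  d_comp_d' i j k _ _ := NatTrans.ext (funext fun n => (K n.as).d_comp_d i j k)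

/-- Its termwise limit. -/
noncomputable def limCx (K : ℕ → CochainComplex A ℤ) : CochainComplex A ℤ :=
  ((lim : (Discrete ℕ ⥤ A) ⥤ A).mapHomologicalComplex (ComplexShape.up ℤ)).obj (seqCx K)

/-- The projections. -/
noncomputable def limCxπ (K : ℕ → CochainComplex A ℤ) (n : ℕ) : limCx K ⟶ K n where
  f i := limit.π (Discrete.functor fun n => (K n).X i) ⟨n⟩
  comm' i j _ := (limMap_π ((seqCx K).d i j) ⟨n⟩).symm

/-- The termwise limit is a product. -/
noncomputable def isLimitLimCx (K : ℕ → CochainComplex A ℤ) :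
    IsLimit (Fan.mk (limCx K) (limCxπ K)) :=
  Fan.IsLimit.mk _
    (fun s =>
      { f := fun i => limit.lift _ (Fan.mk (s.pt.X i) fun n => (s.proj n).f i)
        comm' := fun i j _ => limit.hom_ext fun n => by
          refine (Category.assoc _ _ _).trans ((congrArg (_ ≫ ·) (limMap_π ((seqCx K).d i j) n)).trans ?_)
          refine ((Category.assoc _ _ _).symm.trans (congrArg (· ≫ _) (limit.lift_π _ _))).trans ?_
          refine Eq.trans ?_ (Category.assoc _ _ _).symm
          refine Eq.trans ?_ (congrArg (fun x => s.pt.d i j ≫ x) (limit.lift_π _ _)).symm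
          exact (s.proj n.as).comm i j })
    (fun s n => by
      ext i
      exact limit.lift_π _ _)
    (fun s m hm => by
      ext i
      exact limit.hom_ext fun n => (congr_arg (fun φ => HomologicalComplex.Hom.f φ i) (hm n.as)).trans
        (limit.lift_π (Fan.mk (s.pt.X i) fun n => (s.proj n).f i) n).symm)

/-- Homology commutes with exact countable products. -/
theorem nonempty_isLimit_homology (K : ℕ → CochainComplex A ℤ) (c : Fan K) (hc : IsLimit c) (i : ℤ) :
    Nonempty (IsLimit (Fan.mk (c.pt.homology i) fun n => HomologicalComplex.homologyMap (c.proj n) i :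
      Fan fun n => (K n).homology i)) := by
  let L := (lim : (Discrete ℕ ⥤ A) ⥤ A)
  haveI : L.Additive := ⟨fun {F G} {φ ψ} => limit.hom_ext fun n => by
    rw [Preadditive.add_comp]
    simp [L]⟩
  haveI : PreservesFiniteColimits L := HasExactLimitsOfShape.preservesFiniteColimits
  haveI : PreservesFiniteLimits L := by
    haveI : L.IsRightAdjoint := constLimAdj.isRightAdjoint
    infer_instance
  let S := (seqCx K).sc i
  let ev := fun n : ℕ => (evaluation (Discrete ℕ) A).obj ⟨n⟩
  let τ : ∀ n, L ⟶ ev n := fun n => { app := fun F => limit.π F ⟨n⟩ }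
  let σ : ∀ n, S.map (ev n) ⟶ (K n).sc i := fun n =>
    ShortComplex.homMk (𝟙 _) (𝟙 _) (𝟙 _)
      ((Category.id_comp _).trans (Category.comp_id _).symm)
      ((Category.id_comp _).trans (Category.comp_id _).symm)
  haveI : ∀ n, IsIso (σ n) := fun n => by
    haveI : IsIso (σ n).τ₁ := inferInstanceAs (IsIso (𝟙 _))
    haveI : IsIso (σ n).τ₂ := inferInstanceAs (IsIso (𝟙 _))
    haveI : IsIso (σ n).τ₃ := inferInstanceAs (IsIso (𝟙 _))
    exact ShortComplex.isIso_of_isIso _
  let e₀ : c.pt ≅ limCx K := hc.conePointUniqueUpToIso (isLimitLimCx K)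
  let p : (limCx K).homology i ≅ L.obj S.homology := S.mapHomologyIso L
  let q : ∀ n, S.homology.obj ⟨n⟩ ≅ (K n).homology i := fun n =>
    (S.mapHomologyIso (ev n)).symm ≪≫ ShortComplex.homologyMapIso (asIso (σ n))
  have key : ∀ n, HomologicalComplex.homologyMap (limCxπ K n) i =
      p.hom ≫ limit.π S.homology ⟨n⟩ ≫ (q n).hom := fun n => by
    have h1 := NatTrans.app_homology (τ n) S
    have h2 : (HomologicalComplex.shortComplexFunctor A (ComplexShape.up ℤ) i).map (limCxπ K n) =
        S.mapNatTrans (τ n) ≫ σ n :=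
      ShortComplex.hom_ext _ _
        (by show _ = _ ≫ 𝟙 _; exact (Category.comp_id _).symm)
        (by show _ = _ ≫ 𝟙 _; exact (Category.comp_id _).symm)
        (by show _ = _ ≫ 𝟙 _; exact (Category.comp_id _).symm)
    show ShortComplex.homologyMap _ = _
    rw [h2]
    refine (ShortComplex.homologyMap_comp (S.mapNatTrans (τ n)) (σ n)).trans ?_
    show _ = (S.mapHomologyIso L).hom ≫ (τ n).app S.homology ≫ (q n).hom
    rw [h1]
    simp [q]
    rfl
  let E := HomologicalComplex.homologyFunctor A (ComplexShape.up ℤ) i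
  refine ⟨IsLimit.equivOfNatIsoOfIso
    (Discrete.natIso fun n => q n.as : S.homology ≅ Discrete.functor fun n => (K n).homology i)
    (limit.cone S.homology)
    (Fan.mk (c.pt.homology i) fun n => HomologicalComplex.homologyMap (c.proj n) i :
      Fan fun n => (K n).homology i)
    (Cone.ext (E.mapIso e₀ ≪≫ p).symm fun ⟨n⟩ => ?_) (limit.isLimit _)⟩
  show limit.π S.homology ⟨n⟩ ≫ (q n).hom =
    (p.inv ≫ HomologicalComplex.homologyMap e₀.inv i) ≫ HomologicalComplex.homologyMap (c.proj n) i
  rw [Category.assoc, ← HomologicalComplex.homologyMap_comp]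
  have h3 : e₀.inv ≫ c.proj n = limCxπ K n :=
    hc.conePointUniqueUpToIso_inv_comp (isLimitLimCx K) ⟨n⟩
  rw [h3, key, Iso.inv_hom_id_assoc]

variable [HasDerivedCategory.{w} A]

/-- Cohomology of products of K-injective complexes in the derived category. -/
theorem nonempty_isLimit_homologyFunctor (I : ℕ → CochainComplex A ℤ) (hI : ∀ n, (I n).IsKInjective)
    [HasProduct fun n => DerivedCategory.Q.obj (I n)] (i : ℤ) :
    Nonempty (IsLimit (Fan.mk ((homologyFunctor A i).obj (∏ᶜ fun n => DerivedCategory.Q.obj (I n)))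
      fun n => (homologyFunctor A i).map (Pi.π (fun n => DerivedCategory.Q.obj (I n)) n) :
      Fan fun n => (homologyFunctor A i).obj (DerivedCategory.Q.obj (I n)))) := by
  obtain ⟨h⟩ := nonempty_isLimit_Q I hI _ (productIsProduct I)
  obtain ⟨h'⟩ := nonempty_isLimit_homology I _ (productIsProduct I) i
  let e₁ : ∏ᶜ (fun n => DerivedCategory.Q.obj (I n)) ≅ DerivedCategory.Q.obj (∏ᶜ I) :=
    (limit.isLimit _).conePointUniqueUpToIso h
  let φ := homologyFunctorFactors A i
  refine ⟨IsLimit.equivOfNatIsoOfIso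
    (Discrete.natIso fun n => (φ.app (I n.as)).symm :
      Discrete.functor (fun n => (I n).homology i) ≅
        Discrete.functor fun n => (homologyFunctor A i).obj (DerivedCategory.Q.obj (I n)))
    (Fan.mk ((∏ᶜ I).homology i) fun n => HomologicalComplex.homologyMap (Pi.π I n) i :
      Fan fun n => (I n).homology i)
    (Fan.mk ((homologyFunctor A i).obj (∏ᶜ fun n => DerivedCategory.Q.obj (I n)))
      fun n => (homologyFunctor A i).map (Pi.π (fun n => DerivedCategory.Q.obj (I n)) n) :
      Fan fun n => (homologyFunctor A i).obj (DerivedCategory.Q.obj (I n)))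
    (Cone.ext ((homologyFunctor A i).mapIso e₁ ≪≫ φ.app _).symm fun ⟨n⟩ => ?_) h'⟩
  show HomologicalComplex.homologyMap (Pi.π I n) i ≫ φ.inv.app (I n) =
    (φ.inv.app _ ≫ (homologyFunctor A i).map e₁.inv) ≫
      (homologyFunctor A i).map (Pi.π (fun n => DerivedCategory.Q.obj (I n)) n)
  rw [Category.assoc, ← Functor.map_comp]
  have h3 : e₁.inv ≫ Pi.π (fun n => DerivedCategory.Q.obj (I n)) n = DerivedCategory.Q.map (Pi.π I n) :=
    (limit.isLimit _).conePointUniqueUpToIso_inv_comp h ⟨n⟩
  rw [h3]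
  exact φ.inv.naturality (Pi.π I n)

/-- The kernel of `1 - shift` on an eventually constant tower. -/
theorem tower_exact {M : ℕ → A} (t : ∀ n, M (n + 1) ⟶ M n) (c : Fan M) (hc : IsLimit c)
    (D : c.pt ⟶ c.pt) (hD : ∀ n, D ≫ c.proj n = c.proj n - c.proj (n + 1) ≫ t n)
    {H : A} (φ : H ⟶ c.pt) (a : ∀ n, H ⟶ M n) (hφ : ∀ n, φ ≫ c.proj n = a n)
    (hat : ∀ n, a (n + 1) ≫ t n = a n) (N : ℕ) (hN : ∀ n, N ≤ n → IsIso (a n)) :
    Epi D ∧ Mono φ ∧ ∀ {T : A} (z : T ⟶ c.pt), z ≫ D = 0 → ∃ h : T ⟶ H, h ≫ φ = z := by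
  have ht : ∀ n, N ≤ n → IsIso (t n) := fun n hn => by
    haveI := hN n hn
    haveI := hN (n + 1) (by omega)
    exact IsIso.of_isIso_fac_left (hat n)
  let post : ∀ (T : A) (n : ℕ), (T ⟶ M (n + 1)) →+ (T ⟶ M n) := fun T n =>
    Preadditive.rightComp T (t n)
  refine ⟨?_, ⟨fun {T} g h hgh => ?_⟩, fun {T} z hz => ?_⟩
  · obtain ⟨x, hx⟩ := QCohD.exists_tower_solution (post c.pt) (fun n => c.proj n) N fun n hn f =>
      haveI := ht n hn
      ⟨f ≫ inv (t n), by
        show (f ≫ inv (t n)) ≫ t n = f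
        simp⟩
    haveI : IsSplitEpi D := ⟨⟨⟨Fan.IsLimit.lift hc x, Fan.IsLimit.hom_ext hc _ _ fun n => by
      rw [Category.assoc, hD, Preadditive.comp_sub, Fan.IsLimit.fac,
        ← Category.assoc, Fan.IsLimit.fac, Category.id_comp]
      exact hx n⟩⟩⟩
    infer_instance
  · haveI := hN N le_rfl
    rw [← cancel_mono (a N), ← hφ N, reassoc_of% hgh]
  · haveI := hN N le_rfl
    let h := (z ≫ c.proj N) ≫ inv (a N)
    refine ⟨h, Fan.IsLimit.hom_ext hc _ _ fun n => sub_eq_zero.1 ?_⟩
    refine QCohD.tower_eq_zero (M := fun n => (T ⟶ M n)) (post T) N (fun n hn f g hfg =>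
      haveI := ht n hn
      (cancel_mono (t n)).1 hfg) (fun n => (h ≫ φ) ≫ c.proj n - z ≫ c.proj n) (fun n => ?_) N le_rfl ?_ n
    · have h1 : z ≫ c.proj n = (z ≫ c.proj (n + 1)) ≫ t n := by
        rw [← sub_eq_zero, Category.assoc, ← Preadditive.comp_sub, ← hD, ← Category.assoc, hz, zero_comp]
      have h2 : (h ≫ φ) ≫ c.proj n = ((h ≫ φ) ≫ c.proj (n + 1)) ≫ t n := by
        rw [Category.assoc h, Category.assoc h, hφ, hφ]
        exact (congrArg (h ≫ ·) (hat n)).symm.trans (Category.assoc _ _ _).symm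
      show _ = (_ - _) ≫ t n
      rw [Preadditive.sub_comp, ← h1, ← h2]
    · simp [h, hφ]

variable [EnoughInjectives A]

/-- With exact countable products and enough injectives, every object is a K-injective complex. -/
theorem exists_kInjective_iso_countable (E : DerivedCategory A) :
    ∃ (I : CochainComplex A ℤ) (_ : I.IsKInjective), Nonempty (E ≅ DerivedCategory.Q.obj I) := by
  let Tn : ℕ → DerivedCategory A := fun n => ((t : TStructure (DerivedCategory A)).truncGE (-(n : ℤ))).obj E
  choose I hI e using fun n : ℕ =>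
    haveI : (Tn n).IsGE (-(n : ℤ)) :=
      inferInstanceAs (t.IsGE ((t.truncGE (-(n : ℤ))).obj E) (-(n : ℤ)))
    exists_injective_iso_of_isGE (Tn n) (-(n : ℤ))
  let e' : ∀ n, Tn n ≅ DerivedCategory.Q.obj (I n) := fun n => (e n).some
  let K := fun n => DerivedCategory.Q.obj (I n)
  let a : ∀ n, E ⟶ K n := fun n => ((t : TStructure (DerivedCategory A)).truncGEπ (-(n : ℤ))).app E ≫ (e' n).hom
  let τ : ∀ n, K (n + 1) ⟶ K n := fun n =>
    (e' (n + 1)).inv ≫ ((t : TStructure (DerivedCategory A)).natTransTruncGEOfLE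
      (-((n + 1 : ℕ) : ℤ)) (-(n : ℤ)) (by omega)).app E ≫ (e' n).hom
  have haτ : ∀ n, a (n + 1) ≫ τ n = a n := fun n => by
    simp only [a, τ, Category.assoc, Iso.hom_inv_id_assoc]
    rw [← Category.assoc, t.π_natTransTruncGEOfLE_app]
  obtain ⟨hQ⟩ := nonempty_isLimit_Q I hI _ (productIsProduct I)
  haveI : HasProduct K := ⟨⟨⟨_, hQ⟩⟩⟩
  let D : ∏ᶜ K ⟶ ∏ᶜ K := Pi.lift fun n => Pi.π K n - Pi.π K (n + 1) ≫ τ n
  obtain ⟨L, p, c, hT⟩ := distinguished_cocone_triangle₁ D
  have hzero : Pi.lift a ≫ D = 0 := Pi.hom_ext _ _ fun n => by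
    simp [D, haτ]
  obtain ⟨φ, hφ⟩ : ∃ φ : E ⟶ L, Pi.lift a = φ ≫ p :=
    Triangle.coyoneda_exact₂ _ hT (Pi.lift a) hzero
  have key : ∀ i : ℤ, Epi ((homologyFunctor A i).map D) ∧
      Mono ((homologyFunctor A i).map (Pi.lift a)) ∧
      ∀ {T : A} (z : T ⟶ (homologyFunctor A i).obj (∏ᶜ K)), z ≫ (homologyFunctor A i).map D = 0 →
        ∃ h : T ⟶ (homologyFunctor A i).obj E, h ≫ (homologyFunctor A i).map (Pi.lift a) = z := by
    intro i
    obtain ⟨hl⟩ := nonempty_isLimit_homologyFunctor I hI i
    refine tower_exact (fun n => (homologyFunctor A i).map (τ n)) _ hl _ (fun n => ?_) _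
      (fun n => (homologyFunctor A i).map (a n)) (fun n => ?_) (fun n => ?_) (-i).toNat (fun n hn => ?_)
    · show (homologyFunctor A i).map D ≫ (homologyFunctor A i).map (Pi.π K n) =
        (homologyFunctor A i).map (Pi.π K n) -
          (homologyFunctor A i).map (Pi.π K (n + 1)) ≫ (homologyFunctor A i).map (τ n)
      rw [← Functor.map_comp, ← Functor.map_comp, ← Functor.map_sub, Pi.lift_π]
    · show (homologyFunctor A i).map (Pi.lift a) ≫ (homologyFunctor A i).map (Pi.π K n) = _
      rw [← Functor.map_comp, Pi.lift_π]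
    · rw [← Functor.map_comp, haτ]
    · haveI := H16Derived.DTrunc.isIso_homology_truncGEπ E (-(n : ℤ)) i (by omega)
      simp only [a, Functor.map_comp]
      infer_instance
  have hiso : ∀ i : ℤ, IsIso ((homologyFunctor A i).map φ) := fun i => by
    obtain ⟨-, hm, hlift⟩ := key i
    haveI := (key (i - 1)).1
    have hδ : HomologySequence.δ (Triangle.mk p D c) (i - 1) i (by omega) = 0 := by
      haveI : Epi ((homologyFunctor A (i - 1)).map (Triangle.mk p D c).mor₂) :=
        inferInstanceAs (Epi ((homologyFunctor A (i - 1)).map D))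
      rw [← cancel_epi ((homologyFunctor A (i - 1)).map (Triangle.mk p D c).mor₂), comp_zero]
      exact HomologySequence.comp_δ _ hT (i - 1) i (by omega)
    haveI hp : Mono ((homologyFunctor A i).map p) :=
      (HomologySequence.mono_homologyMap_mor₁_iff _ hT (i - 1) i (by omega)).2 hδ
    have hf : (homologyFunctor A i).map (Pi.lift a) =
        (homologyFunctor A i).map φ ≫ (homologyFunctor A i).map p := by
      rw [← Functor.map_comp, hφ]
    haveI : Mono ((homologyFunctor A i).map φ ≫ (homologyFunctor A i).map p) := hf ▸ hm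
    haveI := mono_of_mono ((homologyFunctor A i).map φ) ((homologyFunctor A i).map p)
    have hpD : (homologyFunctor A i).map p ≫ (homologyFunctor A i).map D = 0 := by
      have h0 : p ≫ D = 0 := comp_distTriang_mor_zero₁₂ _ hT
      rw [← Functor.map_comp, h0, Functor.map_zero]
    obtain ⟨h, hh⟩ := hlift _ hpD
    haveI : IsSplitEpi ((homologyFunctor A i).map φ) := ⟨⟨⟨h, by
      rw [← cancel_mono ((homologyFunctor A i).map p), Category.assoc, ← hf, hh, Category.id_comp]⟩⟩⟩
    exact isIso_of_mono_of_epi _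
  haveI : IsIso φ := by
    rw [DerivedCategory.isIso_iff]
    exact hiso
  haveI : CochainComplex.IsKInjective (∏ᶜ I) := isKInjective_of_fan _ (productIsProduct I) hI
  let ι : ∏ᶜ K ≅ DerivedCategory.Q.obj (∏ᶜ I) := (limit.isLimit _).conePointUniqueUpToIso hQ
  obtain ⟨g, hg⟩ := exists_Q_map_eq (ι.inv ≫ D ≫ ι.hom)
  haveI := isKInjective_mappingCone g inferInstance inferInstance
  let Tg := DerivedCategory.Q.mapTriangle.obj (CochainComplex.mappingCone.triangle g)
  have hTg : Tg ∈ distTriang _ := (DerivedCategory.mem_distTriang_iff _).mpr ⟨_, _, g, ⟨Iso.refl _⟩⟩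
  have hR : (Triangle.mk p D c).rotate ∈ distTriang _ := rot_of_distTriang _ hT
  obtain ⟨w, hw⟩ := exists_iso_of_arrow_iso _ _ hR hTg
    (Arrow.isoMk ι ι (by show ι.hom ≫ DerivedCategory.Q.map g = D ≫ ι.hom; rw [hg, Iso.hom_inv_id_assoc]))
  let w₃ : L⟦(1 : ℤ)⟧ ≅ DerivedCategory.Q.obj (mappingCone g) := Triangle.π₃.mapIso w
  refine ⟨(mappingCone g)⟦(-1 : ℤ)⟧, (isKInjective_shift_iff _ _).2 inferInstance, ⟨asIso φ ≪≫
    (shiftEquiv (DerivedCategory A) (1 : ℤ)).unitIso.app L ≪≫
    (CategoryTheory.shiftFunctor (DerivedCategory A) (-1 : ℤ)).mapIso w₃ ≪≫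
    ((DerivedCategory.Q.commShiftIso (-1 : ℤ)).app (mappingCone g)).symm⟩⟩

end Homology

end Groth.Agent.H16Derived.KInjRes.Countable
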