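import Groth.Agent.H16Derived.KInjRes.SmallRefine
import Groth.Agent.H16Derived.KInjRes.Products
import Groth.Agent.H16Derived.BrownApp
import Mathlib.Algebra.Homology.DerivedCategory.Fractions

/-!
# Perfect generation of the derived category of a Grothendieck abelian category
-/

universe w v u

open CategoryTheory CategoryTheory.Limits
open scoped ZeroObject

namespace Groth.Agent.H16Derived.KInjRes

variable {A : Type u} [Category.{v} A] [Abelian A] [IsGrothendieckAbelian.{v} A]

open Classical in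
/-- The projection of a coproduct to a component. -/
noncomputable def sigmaProj (Z : ℕ → A) (n : ℕ) : (∐ Z) ⟶ Z n :=
  Sigma.desc fun i => if h : i = n then eqToHom (congrArg Z h) else 0

/-- The projection of a coproduct to a finite partial sum. -/
noncomputable def sigmaIdem (Z : ℕ → A) (F : Finset ℕ) : (∐ Z) ⟶ ∐ Z :=
  Sigma.desc fun i => if i ∈ F then Sigma.ι Z i else 0

lemma sigmaIdem_eq_sum (Z : ℕ → A) (F : Finset ℕ) :
    sigmaIdem Z F = ∑ n ∈ F, sigmaProj Z n ≫ Sigma.ι Z n := by
  refine Sigma.hom_ext _ _ fun i => ?_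
  simp only [sigmaIdem, Sigma.ι_desc, Preadditive.comp_sum]
  by_cases hi : i ∈ F
  · rw [if_pos hi, Finset.sum_eq_single i]
    · simp [sigmaProj]
    · intro b _ hb
      simp [sigmaProj, Ne.symm hb]
    · exact fun h => (h hi).elim
  · rw [if_neg hi, Finset.sum_eq_zero fun b hb => ?_]
    simp [sigmaProj, show i ≠ b from fun h => hi (h ▸ hb)]

lemma sigmaIdem_comp (Z : ℕ → A) {F F' : Finset ℕ} (h : F ⊆ F') :
    sigmaIdem Z F ≫ sigmaIdem Z F' = sigmaIdem Z F := by
  refine Sigma.hom_ext _ _ fun i => ?_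
  simp only [sigmaIdem, Sigma.ι_desc_assoc, Sigma.ι_desc]
  by_cases hi : i ∈ F <;> simp [hi]
  exact fun h' => absurd (h hi) h'

/-- The quotients of a coproduct by its finite partial sums. -/
noncomputable def sigmaQuot (Z : ℕ → A) : Finset ℕ ⥤ A where
  obj F := cokernel (sigmaIdem Z F)
  map {F F'} φ := cokernel.desc _ (cokernel.π _) (by
    rw [← sigmaIdem_comp Z (leOfHom φ), Category.assoc, cokernel.condition, comp_zero])
  map_id F := by ext; simp
  map_comp _ _ := by ext; simp

/-- The tautological map to the quotients. -/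
noncomputable def sigmaQuotπ (Z : ℕ → A) {U : A} (x : U ⟶ ∐ Z) :
    (Functor.const (Finset ℕ)).obj U ⟶ sigmaQuot Z where
  app F := x ≫ cokernel.π (sigmaIdem Z F)
  naturality F F' φ := by simp [sigmaQuot]

lemma isZero_colimit_sigmaQuot (Z : ℕ → A) {c : Cocone (sigmaQuot Z)} (hc : IsColimit c) :
    IsZero c.pt := by
  rw [IsZero.iff_id_eq_zero]
  refine hc.hom_ext fun F => ?_
  rw [Category.comp_id, comp_zero]
  change (c.ι.app F : cokernel (sigmaIdem Z F) ⟶ c.pt) = 0
  apply coequalizer.hom_ext
  erw [comp_zero]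
  refine Sigma.hom_ext _ _ fun i => ?_
  rw [comp_zero, ← c.w (homOfLE (Finset.subset_union_left : F ⊆ F ∪ {i}))]
  simp only [sigmaQuot, cokernel.π_desc_assoc]
  rw [show Sigma.ι Z i = Sigma.ι Z i ≫ sigmaIdem Z (F ∪ {i}) by simp [sigmaIdem],
    Category.assoc, cokernel.condition_assoc, zero_comp, comp_zero]

/-- A morphism out of the separator into a coproduct is killed by whatever kills the finitely
supported components. -/
lemma comp_eq_zero_of_components (Z : ℕ → A) (x : separator A ⟶ ∐ Z) {T : A} (q : (∐ Z) ⟶ T)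
    (h : ∀ (F : Finset ℕ) (v : separator A ⟶ separator A), v ≫ x ≫ cokernel.π (sigmaIdem Z F) = 0 →
      ∀ n, v ≫ x ≫ sigmaProj Z n ≫ Sigma.ι Z n ≫ q = 0) :
    x ≫ q = 0 := by
  have : AB5OfSize.{0, 0} A := AB5OfSize_of_univLE A
  have : IsConnected (Finset ℕ) := IsFiltered.isConnected _
  let α := sigmaQuotπ Z x
  let c := colimit.cocone (sigmaQuot Z)
  have hexact := colim.exact_mapShortComplex
    ((ShortComplex.mk _ _ (kernel.condition α)).exact_of_f_is_kernel (kernelIsKernel α))
    (colimit.isColimit _) (isColimitConstCocone (Finset ℕ) (separator A))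
    (colimit.isColimit (sigmaQuot Z))
    (colimit.desc _ { pt := separator A, ι := kernel.ι α }) 0
    (fun F => by
      erw [colimit.ι_desc]
      exact (Category.comp_id _).symm)
    (fun F => ((isZero_colimit_sigmaQuot Z (colimit.isColimit _))).eq_of_tgt _ _)
  obtain ⟨Q, π, hπ, y, fac⟩ := hexact.exact_up_to_refinements (𝟙 (separator A)) comp_zero
  change π ≫ 𝟙 _ = y ≫ colimit.desc _ { pt := separator A, ι := kernel.ι α } at fac
  rw [← cancel_epi π, comp_zero, ← Category.id_comp (x ≫ q), ← Category.assoc, fac, Category.assoc]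
  suffices colimit.desc _ { pt := separator A, ι := kernel.ι α } ≫ x ≫ q = 0 by
    erw [this]
    exact comp_zero
  refine colimit.hom_ext fun F => ?_
  rw [colimit.ι_desc_assoc, comp_zero]
  refine (isSeparator_separator A).def _ _ fun u => ?_
  rw [comp_zero]
  let k := (kernel.ι α).app F
  change u ≫ k ≫ x ≫ q = 0
  have hk : (k ≫ x) ≫ cokernel.π (sigmaIdem Z F) = 0 := by
    rw [Category.assoc]
    exact congrArg (fun e : kernel α ⟶ _ => e.app F) (kernel.condition α)
  have hx : k ≫ x = (k ≫ x) ≫ sigmaIdem Z F := by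
    obtain ⟨Q', π', hπ', z, fac'⟩ :=
      (ShortComplex.exact_cokernel (sigmaIdem Z F)).exact_up_to_refinements _ hk
    change π' ≫ k ≫ x = z ≫ sigmaIdem Z F at fac'
    rw [← cancel_epi π', ← Category.assoc π' (k ≫ x), fac', Category.assoc,
      sigmaIdem_comp Z (subset_refl F)]
  rw [← Category.assoc k x q, hx, sigmaIdem_eq_sum, Preadditive.comp_sum, Preadditive.sum_comp,
    Preadditive.comp_sum]
  refine Finset.sum_eq_zero fun n _ => ?_
  have := h F (u ≫ k) (by rw [Category.assoc, ← Category.assoc k x, hk, comp_zero]) n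
  simpa only [Category.assoc] using this

variable (A) in
/-- The index type bounding the components of a map from a small complex to a coproduct. -/
abbrev Gr (J : Type v) : Type v :=
  (J × Finset ℕ × (separator A ⟶ separator A)) ⊕ (J × Finset ℕ × (separator A ⟶ separator A))

/-- A morphism from a small complex to a coproduct factors through small subcomplexes of the
summands. -/
theorem exists_small_factor {J : Type v} (E : Cx A J) (X : ℕ → CochainComplex A ℤ)
    (g : E.complex ⟶ ∐ X) :
    ∃ (Y : ℕ → Cx A (Gr A J)) (ι : ∀ n, (Y n).complex ⟶ X n)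
      (γ : E.complex ⟶ ∐ fun n => (Y n).complex), γ ≫ Limits.Sigma.map ι = g := by
  classical
  let θ (m : ℤ) : (∐ fun n => (X n).X m) ≅ (∐ X).X m :=
    (PreservesCoproduct.iso (HomologicalComplex.eval A (ComplexShape.up ℤ) m) X).symm
  have hθ : ∀ (m : ℤ) (n : ℕ), Sigma.ι (fun n => (X n).X m) n ≫ (θ m).hom = (Sigma.ι X n).f m := by
    intro m n
    simp [θ]
    exact ι_comp_sigmaComparison (HomologicalComplex.eval A _ m) X n
  let x (m : ℤ) (j : J) : separator A ⟶ ∐ fun n => (X n).X m :=
    Sigma.ι (fun _ : J => separator A) j ≫ E.p m ≫ g.f m ≫ (θ m).inv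
  let base (n : ℕ) (m : ℤ) (r : J × Finset ℕ × (separator A ⟶ separator A)) :
      separator A ⟶ (X n).X m :=
    if r.2.2 ≫ x m r.1 ≫ cokernel.π (sigmaIdem (fun n => (X n).X m) r.2.1) = 0 then
      r.2.2 ≫ x m r.1 ≫ sigmaProj (fun n => (X n).X m) n
    else 0
  let seed (n : ℕ) (m : ℤ) : Gr A J → (separator A ⟶ (X n).X m) :=
    Sum.elim (base n m) fun r => base n (m - 1) r ≫ (X n).d (m - 1) m
  let ψ : free A (Gr A J) ⟶ free A (Gr A J) :=
    Sigma.desc (Sum.elim (fun r => Sigma.ι (fun _ : Gr A J => separator A) (Sum.inr r)) 0)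
  have hψ : ∀ n m, ψ ≫ Sigma.desc (seed n (m + 1)) =
      Sigma.desc (seed n m) ≫ (X n).d m (m + 1) := fun n m => by
    refine Sigma.hom_ext _ _ fun i => ?_
    have h : ∀ m', m' = m → ∀ r, base n m' r ≫ (X n).d m' (m + 1) =
        base n m r ≫ (X n).d m (m + 1) := by
      rintro m' rfl r; rfl
    rcases i with r | r
    · simp only [ψ, Sigma.ι_desc_assoc, Sum.elim_inl, Sigma.ι_desc, seed, Sum.elim_inr]
      exact h _ (by simp) r
    · simp [ψ, seed]
  choose Y ι hι hp using fun n =>
    exists_cx (X n) (fun m => Sigma.desc (seed n m)) (fun _ => ψ) (hψ n)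
  have : Mono (Limits.Sigma.map ι) := by
    have := hι
    infer_instance
  have hg : g ≫ cokernel.π (Limits.Sigma.map ι) = 0 := by
    ext m : 1
    rw [HomologicalComplex.comp_f, HomologicalComplex.zero_f, ← cancel_epi (E.p m), comp_zero]
    refine Sigma.hom_ext _ _ fun j => ?_
    rw [comp_zero]
    have hx : x m j ≫ (θ m).hom ≫ (cokernel.π (Limits.Sigma.map ι)).f m = 0 := by
      refine comp_eq_zero_of_components _ _ _ fun F v hv n => ?_
      have hb : Sigma.ι (fun _ : Gr A J => separator A) (Sum.inl (j, F, v)) ≫ (Y n).p m ≫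
          (ι n).f m = v ≫ x m j ≫ sigmaProj (fun n => (X n).X m) n := by
        rw [hp, Sigma.ι_desc]
        exact if_pos hv
      rw [← reassoc_of% hb, reassoc_of% (hθ m n), ← HomologicalComplex.comp_f_assoc,
        ← HomologicalComplex.comp_f, ← Sigma.ι_map, Category.assoc, cokernel.condition, comp_zero,
        HomologicalComplex.zero_f, comp_zero, comp_zero]
    simpa [x] using hx
  exact ⟨Y, ι, Abelian.monoLift _ g hg, Abelian.monoLift_comp _ g hg⟩

variable (A) in
/-- The index types of the generators. -/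
noncomputable def Tower : ℕ → Type v
  | 0 => PUnit.{v + 1} ⊕ PUnit.{v + 1}
  | k + 1 => Gr A (Bd A (Tower k))

variable (A) in
/-- The index of the generators of the derived category. -/
abbrev DerGenIdx : Type v := Σ k : ℕ, Cx A (Tower A k)

section Derived

variable [HasDerivedCategory.{v} A]

/-- The generators of the derived category. -/
noncomputable def derGen (i : DerGenIdx A) : DerivedCategory A :=
  DerivedCategory.Q.obj i.2.complex

lemma exists_nonzero (X : DerivedCategory A) (hX : ¬ IsZero X) :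
    ∃ (i : DerGenIdx A) (f : derGen i ⟶ X), f ≠ 0 := by
  let M := DerivedCategory.Q.objPreimage X
  let e : DerivedCategory.Q.obj M ≅ X := DerivedCategory.Q.objObjPreimageIso X
  obtain ⟨n, hn⟩ : ∃ n, ¬ IsZero (M.homology n) := by
    by_contra hne
    push Not at hne
    refine hX (IsZero.of_iso ?_ e.symm)
    have : IsIso (0 : DerivedCategory.Q.obj M ⟶ 0) := by
      rw [DerivedCategory.isIso_iff]
      intro n
      exact isIso_of_source_target_iso_zero _
        ((hne n).of_iso ((DerivedCategory.homologyFunctorFactors A n).app _)).isoZero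
        (Functor.map_isZero _ (isZero_zero _)).isoZero
    exact (isZero_zero _).of_iso (asIso (0 : DerivedCategory.Q.obj M ⟶ 0))
  obtain ⟨u, hu⟩ : ∃ u : separator A ⟶ M.cycles n, u ≫ M.homologyπ n ≠ 0 := by
    by_contra hne
    push Not at hne
    refine hn ((IsZero.iff_id_eq_zero _).2 ?_)
    rw [← cancel_epi (M.homologyπ n), comp_zero, Category.comp_id]
    exact (isSeparator_separator A).def _ _ fun u => by rw [hne u, comp_zero]
  let t (m : ℤ) : PUnit.{v + 1} → (separator A ⟶ M.X m) := fun _ =>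
    if h : n = m then u ≫ M.iCycles n ≫ (M.XIsoOfEq h).hom else 0
  have ht : ∀ m, t m PUnit.unit ≫ M.d m (m + 1) = 0 := fun m => by
    by_cases h : n = m
    · subst h; simp [t]
    · simp [t, h]
  obtain ⟨Y, ι, hι, hp⟩ := exists_cx M (J := Tower A 0)
    (fun m => Sigma.desc (Sum.elim (t m) 0)) (fun _ => 0) (fun m => by
      refine Sigma.hom_ext _ _ fun i => ?_
      rcases i with ⟨⟩ | ⟨⟩
      · simp [ht]
      · simp)
  have : ∀ m, Mono (ι.f m) := fun m =>
    inferInstanceAs (Mono ((HomologicalComplex.eval A _ m).map ι))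
  let y : separator A ⟶ Y.complex.X n :=
    Sigma.ι (fun _ : Tower A 0 => separator A) (Sum.inl PUnit.unit) ≫ Y.p n
  have hy : y ≫ ι.f n = u ≫ M.iCycles n := by
    simp only [y, Category.assoc, hp]
    erw [Sigma.ι_desc]
    simp [t]
  have hy₀ : y ≫ Y.complex.d n (n + 1) = 0 := by
    rw [← cancel_mono (ι.f (n + 1)), Category.assoc, ← ι.comm, reassoc_of% hy]
    simp
  refine ⟨⟨0, Y⟩, DerivedCategory.Q.map ι ≫ e.hom, fun h0 => hu ?_⟩
  have h1 : DerivedCategory.Q.map ι = 0 := by
    rw [← cancel_mono e.hom, zero_comp]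
    exact h0
  have h2 : HomologicalComplex.homologyMap ι n = 0 := by
    have := (DerivedCategory.homologyFunctorFactors A n).hom.naturality ι
    rw [Functor.comp_map, h1, Functor.map_zero, zero_comp] at this
    exact (cancel_epi ((DerivedCategory.homologyFunctorFactors A n).hom.app Y.complex)).1
      (this.symm.trans comp_zero.symm)
  have h3 : u = Y.complex.liftCycles y (n + 1) (by simp) hy₀ ≫
      HomologicalComplex.cyclesMap ι n := by
    rw [← cancel_mono (M.iCycles n)]
    simp [hy]
  rw [h3, Category.assoc, ← HomologicalComplex.homologyπ_naturality, h2, comp_zero, comp_zero]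

lemma perfect [HasColimitsOfShape (Discrete ℕ) (DerivedCategory A)] (X : ℕ → DerivedCategory A)
    (i : DerGenIdx A) (α : derGen i ⟶ ∐ X) :
    ∃ (j : ℕ → DerGenIdx A) (β : ∀ n, derGen (j n) ⟶ X n)
      (γ : derGen i ⟶ ∐ fun n => derGen (j n)), α = γ ≫ Limits.Sigma.map β := by
  let M (n : ℕ) := DerivedCategory.Q.objPreimage (X n)
  let e (n : ℕ) : DerivedCategory.Q.obj (M n) ≅ X n := DerivedCategory.Q.objObjPreimageIso (X n)
  have : HasColimitsOfShape (Discrete ℕ) A := inferInstance
  have := preservesCoproduct_Q M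
  let θ : DerivedCategory.Q.obj (∐ M) ≅ ∐ X :=
    PreservesCoproduct.iso DerivedCategory.Q M ≪≫ Limits.Sigma.mapIso e
  have hθ : ∀ n, DerivedCategory.Q.map (Sigma.ι M n) ≫ θ.hom = (e n).hom ≫ Sigma.ι X n := by
    intro n
    rw [← ι_comp_sigmaComparison DerivedCategory.Q M n, ← PreservesCoproduct.inv_hom,
      Category.assoc, Iso.trans_hom, Iso.inv_hom_id_assoc]
    simp [Limits.Sigma.mapIso]
  obtain ⟨k, E⟩ := i
  obtain ⟨E', s, hs, g, hg⟩ := DerivedCategory.right_fac (X := E.complex) (α ≫ θ.inv)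
  have : QuasiIso s := (DerivedCategory.isIso_Q_map_iff_quasiIso A s).1 hs
  obtain ⟨E'', ι, hι⟩ := exists_small_refinement E s
  have : IsIso (DerivedCategory.Q.map (ι ≫ s)) :=
    (DerivedCategory.isIso_Q_map_iff_quasiIso A _).2 hι
  have hg' : DerivedCategory.Q.map (ι ≫ g) = DerivedCategory.Q.map (ι ≫ s) ≫ α ≫ θ.inv := by
    rw [hg, Functor.map_comp, Functor.map_comp, Category.assoc, IsIso.hom_inv_id_assoc]
  obtain ⟨Y, β, γ, hγ⟩ := exists_small_factor E'' M (ι ≫ g)
  let Yc (n : ℕ) := (Y n).complex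
  have := preservesCoproduct_Q Yc
  let w : DerivedCategory.Q.obj E.complex ⟶ DerivedCategory.Q.obj E''.complex :=
    inv (DerivedCategory.Q.map (ι ≫ s))
  refine ⟨fun n => ⟨k + 1, Y n⟩, fun n => DerivedCategory.Q.map (β n) ≫ (e n).hom,
    w ≫ DerivedCategory.Q.map γ ≫
      (PreservesCoproduct.iso DerivedCategory.Q Yc).hom, ?_⟩
  have hmap : DerivedCategory.Q.map (Limits.Sigma.map β) ≫ θ.hom =
      (PreservesCoproduct.iso DerivedCategory.Q Yc).hom ≫
        Limits.Sigma.map (fun n => DerivedCategory.Q.map (β n) ≫ (e n).hom) := by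
    rw [← Iso.inv_comp_eq]
    refine Sigma.hom_ext _ _ fun n => ?_
    rw [PreservesCoproduct.inv_hom, ι_comp_sigmaComparison_assoc, ← Functor.map_comp_assoc,
      Sigma.ι_map, Sigma.ι_map, Functor.map_comp_assoc, hθ, Category.assoc]
  simp only [Category.assoc]
  erw [← hmap]
  rw [← Functor.map_comp_assoc, hγ, hg', Category.assoc, Category.assoc, θ.inv_hom_id,
    Category.comp_id]
  exact (IsIso.inv_hom_id_assoc (DerivedCategory.Q.map (ι ≫ s)) α).symm

theorem exists_gen [HasCoproducts.{v} (DerivedCategory A)]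
    [HasColimitsOfShape (Discrete ℕ) (DerivedCategory A)] :
    ∃ (ι : Type v) (E : ι → DerivedCategory A), Brown.Gen E :=
  ⟨_, _, Brown.gen_of_nonzero (derGen (A := A)) exists_nonzero perfect⟩

end Derived

end Groth.Agent.H16Derived.KInjRes
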