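import Groth.Agent.H16Derived.Lifting
import Mathlib.CategoryTheory.Abelian.GrothendieckCategory.EnoughInjectives
import Mathlib.Algebra.Homology.GrothendieckAbelian
import Mathlib.Algebra.Homology.Double
import Mathlib.Algebra.Homology.Single
import Mathlib.Algebra.Homology.HomotopyCategory.KInjective

/-!
# The small object argument for monomorphisms with acyclic cokernel of complexes
-/

universe v u

open CategoryTheory CategoryTheory.Limits CategoryTheory.MorphismProperty
open scoped ZeroObject

namespace Groth.Agent.H16Derived.KInjRes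

open Lifting

variable {A : Type u} [Category.{v} A] [Abelian A]

/-- The projection of a disk to its bottom term. -/
noncomputable def diskToSingle (E : A) (n : ℤ) :
    disk E n ⟶ (HomologicalComplex.single A (ComplexShape.up ℤ) n).obj E :=
  HomologicalComplex.mkHomToSingle (HomologicalComplex.doubleXIso₀ (𝟙 E) (rel n)).hom
    (fun i hi => by
      simp only [ComplexShape.up_Rel] at hi
      rw [HomologicalComplex.double_d_eq_zero₁ _ _ _ _ (by lia : n ≠ n + 1), zero_comp])

/-- The map into a disk determined by its top component. -/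
noncomputable def toDisk {Y : CochainComplex A ℤ} (E : A) (n : ℤ) (h : Y.X (n + 1) ⟶ E) :
    Y ⟶ disk E n :=
  have hn : (n : ℤ) ≠ n + 1 := by lia
  { f := fun k =>
      if h₀ : k = n then
        (Y.XIsoOfEq h₀).hom ≫ Y.d n (n + 1) ≫ h ≫
          (HomologicalComplex.doubleXIso₀ (𝟙 E) (rel n)).inv ≫
          ((disk E n).XIsoOfEq h₀).inv
      else if h₁ : k = n + 1 then
        (Y.XIsoOfEq h₁).hom ≫ h ≫
          (HomologicalComplex.doubleXIso₁ (𝟙 E) (rel n) hn).inv ≫
          ((disk E n).XIsoOfEq h₁).inv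
      else 0
    comm' := fun k k' hk => by
      simp only [ComplexShape.up_Rel] at hk
      by_cases h₀ : k = n
      · subst h₀
        obtain rfl : k' = k + 1 := hk.symm
        simp [HomologicalComplex.double_d _ (rel k) hn]
      · rw [HomologicalComplex.double_d_eq_zero₀ _ _ _ _ h₀, comp_zero]
        by_cases h₀' : k' = n
        · subst h₀'
          simp
        · rw [dif_neg h₀']
          by_cases h₁ : k' = n + 1
          · exact absurd (show k = n by lia) h₀
          · rw [dif_neg h₁, comp_zero] }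

lemma toDisk_f₀ {Y : CochainComplex A ℤ} (E : A) (n : ℤ) (h : Y.X (n + 1) ⟶ E) :
    (toDisk E n h).f n =
      Y.d n (n + 1) ≫ h ≫ (HomologicalComplex.doubleXIso₀ (𝟙 E) (rel n)).inv := by
  simp [toDisk]

lemma toDisk_f₁ {Y : CochainComplex A ℤ} (E : A) (n : ℤ) (h : Y.X (n + 1) ⟶ E) :
    (toDisk E n h).f (n + 1) =
      h ≫ (HomologicalComplex.doubleXIso₁ (𝟙 E) (rel n) (by lia)).inv := by
  simp [toDisk]

/-- Fibrations against a morphism: the disk of an injective maps onto its bottom. -/
lemma hasLiftingProperty_diskToSingle {X Y : CochainComplex A ℤ} (i : X ⟶ Y) [Mono i]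
    (hi : (cokernel i).Acyclic) (E : A) [Injective E] (n : ℤ) :
    HasLiftingProperty i (diskToSingle E n) where
  sq_hasLift {t b} sq := by
    have hn : (n : ℤ) ≠ n + 1 := by lia
    have hm : Mono (i.f (n + 1)) := inferInstanceAs (Mono ((HomologicalComplex.eval A _ _).map i))
    have hm' : Mono (i.f n) := inferInstanceAs (Mono ((HomologicalComplex.eval A _ _).map i))
    have hdd : ∀ k : ℤ, (ComplexShape.up ℤ).Rel k n →
        (disk E n).d k n = 0 := fun k _ =>
      HomologicalComplex.double_d_eq_zero₁ _ _ _ _ hn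
    let e₀ := HomologicalComplex.doubleXIso₀ (𝟙 E) (rel n)
    let e₁ := HomologicalComplex.doubleXIso₁ (𝟙 E) (rel n) hn
    let s := HomologicalComplex.singleObjXSelf (ComplexShape.up ℤ) n E
    let t₁ : X.X (n + 1) ⟶ E := t.f (n + 1) ≫ e₁.hom
    have ht₀ : t.f n ≫ e₀.hom = X.d n (n + 1) ≫ t₁ := by
      have := t.comm n (n + 1)
      rw [HomologicalComplex.double_d _ _ hn, Category.id_comp] at this
      simp only [t₁, ← reassoc_of% this, e₀, e₁]
      simp
    let h₁ : Y.X (n + 1) ⟶ E := Injective.factorThru t₁ (i.f (n + 1))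
    have hh₁ : i.f (n + 1) ≫ h₁ = t₁ := Injective.comp_factorThru _ _
    let β : Y.X n ⟶ E := b.f n ≫ s.hom - Y.d n (n + 1) ≫ h₁
    have hβi : i.f n ≫ β = 0 := by
      have h := congrArg (fun f => f.f n) sq.w
      simp only [HomologicalComplex.comp_f, diskToSingle, HomologicalComplex.mkHomToSingle_f] at h
      rw [Preadditive.comp_sub, sub_eq_zero, ← Category.assoc, ← h, i.comm_assoc, hh₁, ← ht₀]
      simp [e₀, s]
    have hdβ : Y.d (n - 1) n ≫ β = 0 := by
      have hb : Y.d (n - 1) n ≫ b.f n = 0 := by
        rw [← b.comm, HomologicalComplex.single_obj_d, comp_zero]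
      rw [Preadditive.comp_sub, reassoc_of% hb, Y.d_comp_d_assoc, zero_comp, zero_comp, sub_zero]
    let S := ShortComplex.mk i (cokernel.π i) (cokernel.condition i)
    have hS : S.ShortExact := { exact := ShortComplex.exact_cokernel i }
    have hSn := fun k => hS.map_of_exact (HomologicalComplex.eval A (ComplexShape.up ℤ) k)
    have : Epi (S.map (HomologicalComplex.eval A (ComplexShape.up ℤ) n)).g := (hSn n).epi_g
    let β' : (cokernel i).X n ⟶ E := (hSn n).exact.desc β hβi
    have hβ' : (cokernel.π i).f n ≫ β' = β := (hSn n).exact.g_desc β hβi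
    have hdβ' : (cokernel i).d (n - 1) n ≫ β' = 0 := by
      have : Epi ((cokernel.π i).f (n - 1)) := (hSn (n - 1)).epi_g
      rw [← cancel_epi ((cokernel.π i).f (n - 1)), (cokernel.π i).comm_assoc, hβ', hdβ, comp_zero]
    have hex : (HomologicalComplex.sc' (cokernel i) (n - 1) n (n + 1)).Exact :=
      (HomologicalComplex.exactAt_iff' _ (n - 1) n (n + 1) (by simp) (by simp)).1 (hi n)
    let γ : (cokernel i).X (n + 1) ⟶ E := hex.descToInjective β' hdβ'
    have hγ : (cokernel i).d n (n + 1) ≫ γ = β' := hex.comp_descToInjective β' hdβ'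
    let h : Y.X (n + 1) ⟶ E := h₁ + (cokernel.π i).f (n + 1) ≫ γ
    have hhi : i.f (n + 1) ≫ h = t₁ := by
      rw [Preadditive.comp_add, hh₁, ← Category.assoc, ← HomologicalComplex.comp_f,
        cokernel.condition, HomologicalComplex.zero_f, zero_comp, add_zero]
    have hdh : Y.d n (n + 1) ≫ h = b.f n ≫ s.hom := by
      rw [Preadditive.comp_add, ← (cokernel.π i).comm_assoc, hγ, hβ']
      simp [β]
    let l : Y ⟶ disk E n := toDisk E n h
    refine ⟨⟨{ l := l, fac_left := ?_, fac_right := ?_ }⟩⟩
    · refine HomologicalComplex.to_double_hom_ext ?_ ?_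
      · simp only [l, HomologicalComplex.comp_f, toDisk_f₀]
        rw [i.comm_assoc, reassoc_of% hhi, ← Category.assoc, ← ht₀]
        simp [e₀]
      · simp only [l, HomologicalComplex.comp_f, toDisk_f₁]
        rw [reassoc_of% hhi]
        simp [t₁, e₁]
    · refine HomologicalComplex.to_single_hom_ext ?_
      simp only [l, HomologicalComplex.comp_f, toDisk_f₀, diskToSingle,
        HomologicalComplex.mkHomToSingle_f]
      rw [← cancel_mono s.hom, ← hdh]
      simp [s]

variable [IsGrothendieckAbelian.{v} A]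

/-- Maps with acyclic cokernel among the maps with the left lifting property. -/
lemma mono_and_acyclic_of_llp (J : MorphismProperty (CochainComplex A ℤ))
    (hJ : ∀ ⦃X Y : CochainComplex A ℤ⦄ (f : X ⟶ Y), J f → Mono f ∧ (cokernel f).Acyclic)
    {X Y : CochainComplex A ℤ} (i : X ⟶ Y) (hi : J.rlp.llp i) :
    Mono i ∧ (cokernel i).Acyclic := by
  have hmono : Mono i := by
    have h := (antitone_llp (antitone_rlp
      (show J ≤ monomorphisms _ from fun _ _ f hf => (hJ f hf).1))) i hi
    rw [IsGrothendieckAbelian.llp_rlp_monomorphisms.{v} (isSeparator_separator _)] at h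
    exact h
  refine ⟨hmono, fun n => ?_⟩
  rw [HomologicalComplex.exactAt_iff' _ (n - 1) n (n + 1) (by simp) (by simp),
    ShortComplex.exact_iff_mono_cokernel_desc]
  let C := cokernel i
  let Q := cokernel (C.d (n - 1) n)
  let w : Q ⟶ C.X (n + 1) := cokernel.desc _ (C.d n (n + 1)) (C.d_comp_d _ _ _)
  change Mono w
  let E := Injective.under Q
  let g : C ⟶ (HomologicalComplex.single A (ComplexShape.up ℤ) n).obj E :=
    HomologicalComplex.mkHomToSingle (cokernel.π _ ≫ Injective.ι Q) (fun k hk => by
      obtain rfl : k = n - 1 := by simp only [ComplexShape.up_Rel] at hk; lia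
      rw [cokernel.condition_assoc, zero_comp])
  have hp : J.rlp (diskToSingle E n) := fun _ _ f hf =>
    have := (hJ f hf).1
    hasLiftingProperty_diskToSingle f (hJ f hf).2 E n
  have := hi _ hp
  have sq : CommSq (0 : X ⟶ disk E n) i (diskToSingle E n) (cokernel.π i ≫ g) :=
    ⟨by rw [zero_comp, cokernel.condition_assoc, zero_comp]⟩
  let l : C ⟶ disk E n := cokernel.desc i sq.lift sq.fac_left
  have hl : l ≫ diskToSingle E n = g := by
    rw [← cancel_epi (cokernel.π i), cokernel.π_desc_assoc, sq.fac_right]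
  have hn : (n : ℤ) ≠ n + 1 := by lia
  have hcomm := l.comm n (n + 1)
  rw [HomologicalComplex.double_d _ _ hn, Category.id_comp] at hcomm
  have hf := congrArg (fun f => f.f n) hl
  simp only [HomologicalComplex.comp_f, diskToSingle, g, HomologicalComplex.mkHomToSingle_f] at hf
  have key : w ≫ l.f (n + 1) ≫ (HomologicalComplex.doubleXIso₁ (𝟙 E) (rel n) hn).hom =
      Injective.ι Q := by
    rw [← cancel_epi (cokernel.π (C.d (n - 1) n)), cokernel.π_desc_assoc, ← reassoc_of% hcomm]
    simpa [← Category.assoc] using hf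
  exact mono_of_mono_fac key

/-- Functorial embeddings with acyclic cokernel into objects with the right lifting property
with respect to a small family of monomorphisms with acyclic cokernels. -/
theorem exists_functorial {κ : Type v} {S T : κ → CochainComplex A ℤ} (f : ∀ k, S k ⟶ T k)
    [∀ k, Mono (f k)] (hf : ∀ k, (cokernel (f k)).Acyclic) :
    ∃ (N : CochainComplex A ℤ ⥤ CochainComplex A ℤ) (j : 𝟭 _ ⟶ N),
      ∀ M : CochainComplex A ℤ, Mono (j.app M) ∧ (cokernel (j.app M)).Acyclic ∧
        (ofHoms f).rlp.llp (j.app M) ∧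
        ∀ (k : κ) (φ : S k ⟶ N.obj M), ∃ ψ : T k ⟶ N.obj M, f k ≫ ψ = φ := by
  let J : MorphismProperty (CochainComplex A ℤ) := ofHoms f
  have hJ : ∀ ⦃X Y : CochainComplex A ℤ⦄ (g : X ⟶ Y), J g → Mono g ∧ (cokernel g).Acyclic := by
    rintro _ _ _ ⟨k⟩
    exact ⟨inferInstance, hf k⟩
  have : HasSmallObjectArgument.{v} J := by
    obtain ⟨c, hc', hc⟩ := HasCardinalLT.exists_regular_cardinal_forall.{v}
      (fun k => Subobject (S k))
    have : Fact c.IsRegular := ⟨hc'⟩
    have : Nonempty c.ord.ToType := by simpa using hc'.ne_zero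
    have := WellFoundedLT.toOrderBot c.ord.ToType
    exact ⟨c, inferInstance, inferInstance,
      { preservesColimit {A' B' X Y} i hi g hg := by
          let hg' : (monomorphisms (CochainComplex A ℤ)).TransfiniteCompositionOfShape
              c.ord.ToType g :=
            { toTransfiniteCompositionOfShape := hg.toTransfiniteCompositionOfShape
              map_mem j hj := by
                have := (hg.attachCells j hj).pushouts_coproducts
                simp only [ofHoms_homFamily] at this
                refine (?_ : _ ≤ monomorphisms _) _ this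
                simp only [pushouts_le_iff, coproducts_le_iff]
                exact fun _ _ x hx => (hJ x hx).1 }
          have (j j' : c.ord.ToType) (φ : j ⟶ j') : Mono (hg'.F.map φ) := hg'.mem_map φ
          apply IsGrothendieckAbelian.preservesColimit_coyoneda_obj_of_mono (Y := hg'.F) (κ := c)
          obtain ⟨k⟩ := hi
          exact hc k }⟩
  let d := functorialFactorizationData J.rlp.llp J.rlp
  let F : CochainComplex A ℤ ⥤ Arrow (CochainComplex A ℤ) :=
    { obj := fun M => Arrow.mk (0 : M ⟶ 0)
      map := fun φ => Arrow.homMk φ (𝟙 _) (by simp) }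
  let j : 𝟭 _ ⟶ F ⋙ d.Z :=
    { app := fun M => d.i.app (Arrow.mk (0 : M ⟶ 0))
      naturality := fun M M' φ => d.i.naturality (F.map φ) }
  refine ⟨F ⋙ d.Z, j, fun M => ?_⟩
  obtain ⟨h1, h2⟩ := mono_and_acyclic_of_llp J hJ _ (d.hi (Arrow.mk (0 : M ⟶ 0)))
  refine ⟨h1, h2, d.hi (Arrow.mk (0 : M ⟶ 0)), fun k φ => ?_⟩
  have := d.hp (Arrow.mk (0 : M ⟶ 0)) (f k) ⟨k⟩
  have sq : CommSq φ (f k) (d.p.app (Arrow.mk (0 : M ⟶ 0))) 0 :=
    ⟨(isZero_zero _).eq_of_tgt _ _⟩
  exact ⟨sq.lift, sq.fac_left⟩

end Groth.Agent.H16Derived.KInjRes
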