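import Groth.Agent.H16Derived.KInjRes.SmallAcyclic
import Groth.Agent.H16Derived.AcyclicLES

/-!
# Small complexes refine quasi-isomorphisms
-/

universe v u

open CategoryTheory CategoryTheory.Limits CochainComplex CochainComplex.HomComplex

namespace Groth.Agent.H16Derived.KInjRes

variable {A : Type u} [Category.{v} A] [Abelian A] [IsGrothendieckAbelian.{v} A]

lemma Closure.total_comm' (M : CochainComplex A ℤ) {J : Type v}
    (seed : ∀ m : ℤ, J → (separator A ⟶ M.X m)) (i j : ℤ) (h : i + 1 = j) :
    Closure.shiftBound J ≫ Closure.total M seed j = Closure.total M seed i ≫ M.d i j := by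
  subst h
  exact Closure.total_comm M seed i

/-- A quasi-isomorphism onto a small complex is refined by a small subcomplex. -/
theorem exists_small_refinement {J : Type v} (E : Cx A J) {E' : CochainComplex A ℤ}
    (s : E' ⟶ E.complex) [QuasiIso s] :
    ∃ (E'' : Cx A (Bd A J)) (ι : E''.complex ⟶ E'), QuasiIso (ι ≫ s) := by
  let M := mappingCone s
  have hM : M.Acyclic :=
    (Groth.Agent.H16Derived.AcyclicLES.quasiIso_iff_acyclic_mappingCone s).1 inferInstance
  let seed (m : ℤ) (j : J) : separator A ⟶ M.X m :=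
    Sigma.ι (fun _ : J => separator A) j ≫ E.p m ≫ (mappingCone.inr s).f m
  let τ := Closure.total M seed
  let t (m : ℤ) : bound A J ⟶ E'.X m :=
    τ (m - 1) ≫ (mappingCone.fst s).1.v (m - 1) m (by lia)
  have ht : ∀ p q (h : p + 1 = q), τ p ≫ (mappingCone.fst s).1.v p q h = t q := by
    intro p q h
    obtain rfl : p = q - 1 := by lia
    rfl
  obtain ⟨E'', ι, hι, hp⟩ := exists_cx E' t (fun _ => -Closure.shiftBound J) (fun m => by
    rw [← ht m (m + 1) rfl, ← ht (m - 1) m (by lia), Preadditive.neg_comp, ← Category.assoc,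
      Closure.total_comm' M seed (m - 1) m (by lia), Category.assoc, Category.assoc,
      mappingCone.d_fst_v s (m - 1) m (m + 1) (by lia) rfl]
    simp [τ])
  refine ⟨E'', ι, ?_⟩
  rw [Groth.Agent.H16Derived.AcyclicLES.quasiIso_iff_acyclic_mappingCone]
  have : ∀ m, Mono (ι.f m) := fun m =>
    inferInstanceAs (Mono ((HomologicalComplex.eval A _ m).map ι))
  let φ := ι ≫ s
  let j : mappingCone φ ⟶ M := mappingCone.map φ s ι (𝟙 _) (by simp [φ])
  have hj₁ : ∀ m, j.f m ≫ (mappingCone.fst s).1.v m (m + 1) rfl =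
      (mappingCone.fst φ).1.v m (m + 1) rfl ≫ ι.f (m + 1) := fun m => by
    rw [mappingCone.ext_from_iff φ (m + 1) m rfl]
    constructor <;> simp [j, mappingCone.map, -HomologicalComplex.comp_f]
  have hj₂ : ∀ m, j.f m ≫ (mappingCone.snd s).v m m (add_zero m) =
      (mappingCone.snd φ).v m m (add_zero m) := fun m => by
    rw [mappingCone.ext_from_iff φ (m + 1) m rfl]
    constructor <;> simp [j, mappingCone.map, -HomologicalComplex.comp_f]
  have hjm : ∀ m, Mono (j.f m) := fun m => Preadditive.mono_of_cancel_zero _ fun {P} g hg => by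
    refine mappingCone.ext_to φ m (m + 1) rfl ?_ ?_
    · rw [← cancel_mono (ι.f (m + 1)), Category.assoc, ← hj₁, reassoc_of% hg]
      simp
    · rw [← hj₂, reassoc_of% hg]
      simp
  have : Mono j := HomologicalComplex.mono_of_mono_f _ hjm
  let a (m : ℤ) : bound A J ⟶ (mappingCone φ).X m :=
    E''.p (m + 1) ≫ (mappingCone.inl φ).v (m + 1) m (by lia) +
      (τ m ≫ (mappingCone.snd s).v m m (add_zero m)) ≫ (mappingCone.inr φ).f m
  have ha : ∀ m, a m ≫ j.f m = τ m := fun m => by
    refine mappingCone.ext_to s m (m + 1) rfl ?_ ?_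
    · rw [Category.assoc, hj₁, ← Category.assoc]
      simp [a, hp, ht]
    · rw [Category.assoc, hj₂]
      simp [a]
  have hae : ∀ m, Epi (a m) := fun m => Preadditive.epi_of_cancel_zero _ fun {P} g hg => by
    have h₁ : (mappingCone.inr φ).f m ≫ g = 0 := by
      rw [← cancel_epi (E.p m), comp_zero]
      refine Sigma.hom_ext _ _ fun i => ?_
      have e : Sigma.ι (fun _ : Bd A J => separator A) ⟨0, i⟩ ≫ a m =
          Sigma.ι (fun _ : J => separator A) i ≫ E.p m ≫ (mappingCone.inr φ).f m := by
        rw [← cancel_mono (j.f m), Category.assoc, ha, Closure.ι_total]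
        simp [seed, j, mappingCone.map, -HomologicalComplex.comp_f, ← HomologicalComplex.comp_f]
      have := congrArg (· ≫ g) e
      simp only [Category.assoc, hg, comp_zero] at this
      rw [← this, comp_zero]
    have h₂ : (mappingCone.inl φ).v (m + 1) m (by lia) ≫ g = 0 := by
      rw [← cancel_epi (E''.p (m + 1)), comp_zero]
      simpa [a, h₁] using hg
    exact mappingCone.ext_from φ (m + 1) m rfl (by rw [h₂, comp_zero]) (by rw [h₁, comp_zero])
  exact Closure.acyclic_of_total M seed hM j a ha

end Groth.Agent.H16Derived.KInjRes
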